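import Mathlib
set_option linter.all false

/-!
A faithful irreducible module for a group of prime order `p` over the field with `q` elements has
order `q ^ e` with `e` the multiplicative order of `q` modulo `p`.
-/

set_option autoImplicit false

namespace Cfsg.Agent.H469.IrrCyc

open Polynomial Module

section Lin

variable {K V : Type*} [Field K] [AddCommGroup V] [Module K V] (T : V →ₗ[K] V)

/-- The range of `f ↦ f(T) w` . -/
noncomputable def orbMap (w : V) : K[X] →ₗ[K] V :=
  (LinearMap.applyₗ w : (V →ₗ[K] V) →ₗ[K] V) ∘ₗ (aeval T : K[X] →ₐ[K] (V →ₗ[K] V)).toLinearMap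

theorem orbMap_apply (w : V) (f : K[X]) : orbMap T w f = (aeval T f) w := rfl

theorem orbMap_surjective
    (hs : ∀ W : Submodule K V, (∀ w ∈ W, T w ∈ W) → W = ⊥ ∨ W = ⊤) {w : V} (hw : w ≠ 0) :
    Function.Surjective (orbMap T w) := by
  rw [← LinearMap.range_eq_top]
  have h := hs (LinearMap.range (orbMap T w)) (by
    rintro _ ⟨f, rfl⟩
    refine ⟨X * f, ?_⟩
    rw [orbMap_apply, orbMap_apply, map_mul, aeval_X]
    rfl)
  rcases h with h | h
  · exfalso
    apply hw
    have h1 : orbMap T w 1 ∈ LinearMap.range (orbMap T w) := ⟨1, rfl⟩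
    rw [h, Submodule.mem_bot, orbMap_apply, map_one] at h1
    exact h1
  · exact h

theorem aeval_eq_zero
    (hs : ∀ W : Submodule K V, (∀ w ∈ W, T w ∈ W) → W = ⊥ ∨ W = ⊤) {w : V} (hw : w ≠ 0)
    {f : K[X]} (hf : aeval T f w = 0) : aeval T f = 0 := by
  ext u
  obtain ⟨g, rfl⟩ := orbMap_surjective T hs hw u
  rw [orbMap_apply, ← Module.End.mul_apply, ← map_mul, mul_comm, map_mul, Module.End.mul_apply, hf,
    map_zero, LinearMap.zero_apply]

theorem minpoly_irreducible [FiniteDimensional K V] [Nontrivial V]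
    (hs : ∀ W : Submodule K V, (∀ w ∈ W, T w ∈ W) → W = ⊥ ∨ W = ⊤) :
    Irreducible (minpoly K T) := by
  have hint : IsIntegral K T := Algebra.IsIntegral.isIntegral T
  have h0 : minpoly K T ≠ 0 := minpoly.ne_zero hint
  obtain ⟨w, hw⟩ := exists_ne (0 : V)
  refine ⟨minpoly.not_isUnit K T, ?_⟩
  intro a b hab
  have hab0 : aeval T (a * b) = 0 := by rw [← hab]; exact minpoly.aeval K T
  have hunit : ∀ c d : K[X], minpoly K T = c * d → aeval T d = 0 → IsUnit c := by
    intro c d hcd hd
    have hdvd : minpoly K T ∣ d := minpoly.dvd K T hd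
    have hd0 : d ≠ 0 := by rintro rfl; rw [mul_zero] at hcd; exact h0 hcd
    rw [hcd] at hdvd
    obtain ⟨e, he⟩ := hdvd
    have : d * (c * e - 1) = 0 := by rw [mul_sub, mul_one, sub_eq_zero]; rw [← mul_assoc, mul_comm d c]; exact he.symm
    have h1 : c * e = 1 := by
      rcases mul_eq_zero.mp this with h | h
      · exact absurd h hd0
      · exact sub_eq_zero.mp h
    exact IsUnit.of_mul_eq_one _ h1
  by_cases hb : aeval T b w = 0
  · left
    exact hunit a b hab (aeval_eq_zero T hs hw hb)
  · right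
    refine hunit b a (by rw [hab, mul_comm]) (aeval_eq_zero T hs hb ?_)
    rw [← Module.End.mul_apply, ← map_mul, hab0, LinearMap.zero_apply]

theorem finrank_eq [FiniteDimensional K V] [Nontrivial V]
    (hs : ∀ W : Submodule K V, (∀ w ∈ W, T w ∈ W) → W = ⊥ ∨ W = ⊤) :
    finrank K V = (minpoly K T).natDegree := by
  obtain ⟨w, hw⟩ := exists_ne (0 : V)
  have hsurj := orbMap_surjective T hs hw
  have hker : LinearMap.ker (orbMap T w) =
      (Ideal.span {minpoly K T} : Ideal K[X]).restrictScalars K := by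
    ext f
    rw [LinearMap.mem_ker, Submodule.restrictScalars_mem, Ideal.mem_span_singleton, orbMap_apply]
    constructor
    · intro h
      exact minpoly.dvd K T (aeval_eq_zero T hs hw h)
    · rintro ⟨g, rfl⟩
      rw [map_mul, minpoly.aeval, zero_mul, LinearMap.zero_apply]
  have e := LinearMap.quotKerEquivOfSurjective _ hsurj
  rw [← e.finrank_eq, hker]
  exact finrank_quotient_span_eq_natDegree

end Lin

theorem orderOf_unitOfCoprime {p q : ℕ} (h : q.Coprime p) :
    orderOf (ZMod.unitOfCoprime q h) = orderOf (q : ZMod p) := by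
  rw [← orderOf_units, ZMod.coe_unitOfCoprime]

/-- A faithful irreducible module for a cyclic group of prime order `p`. -/
theorem card_eq_pow {V : Type*} [AddCommGroup V] [Finite V] [Nontrivial V] {p q : ℕ}
    [hp : Fact p.Prime] [hq : Fact q.Prime] [Module (ZMod q) V] (hpq : q ≠ p)
    (T : V →ₗ[ZMod q] V) (hTp : T ^ p = 1) (hT1 : T ≠ 1)
    (hs : ∀ W : Submodule (ZMod q) V, (∀ w ∈ W, T w ∈ W) → W = ⊥ ∨ W = ⊤) :
    Nat.card V = q ^ orderOf (q : ZMod p) := by
  have hfin : FiniteDimensional (ZMod q) V := Module.Finite.of_finite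
  have hirr := minpoly_irreducible T hs
  have hcop : q.Coprime p := (Nat.coprime_primes hq.out hp.out).mpr hpq
  have hdvd : minpoly (ZMod q) T ∣ cyclotomic p (ZMod q) := by
    have h1 : minpoly (ZMod q) T ∣ X ^ p - 1 := by
      apply minpoly.dvd
      rw [map_sub, map_pow, aeval_X, map_one, hTp, sub_self]
    rw [← cyclotomic_prime_mul_X_sub_one] at h1
    rcases hirr.prime.dvd_or_dvd h1 with h | h
    · exact h
    · exfalso
      apply hT1
      obtain ⟨g, hg⟩ := h
      have h2 : aeval T (X - 1 : (ZMod q)[X]) = 0 := by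
        rw [hg, map_mul, minpoly.aeval, zero_mul]
      rw [map_sub, aeval_X, map_one, sub_eq_zero] at h2
      exact h2
  have hdeg := natDegree_of_dvd_cyclotomic_of_irreducible (K := ZMod q) (p := q) (f := 1) (n := p)
    (by rw [ZMod.card, pow_one]) hcop hdvd hirr
  rw [Module.natCard_eq_pow_finrank (K := ZMod q), Nat.card_zmod, finrank_eq T hs, hdeg]
  congr 1
  have := orderOf_unitOfCoprime (p := p) (q := q ^ 1) (hcop.pow_left 1)
  rw [this, pow_one]

end Cfsg.Agent.H469.IrrCyc
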