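import Mathlib
import Cfsg.Prelude.Def_LocalStructure
import Cfsg.Prelude.Def_Transfer
import Cfsg.Agent.H469.MinStruct
set_option linter.all false

/-!
Minimal non-`p`-closed groups which are not simple have order `p * q ^ e`.
-/

set_option autoImplicit false

namespace Cfsg.Agent.H469.MinClosed

open Subgroup Cfsg

variable {G : Type*} [Group G]

/-- In a finite `p`-closed group all `p`-subgroups lie in one normal `p`-subgroup. -/
theorem exists_of_isPClosed [Finite G] {p : ℕ} [hp : Fact p.Prime] (h : Cfsg.IsPClosed p G) :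
    ∃ S : Sylow p G, (S : Subgroup G).Normal ∧ ∀ R : Subgroup G, IsPGroup p R → R ≤ S := by
  obtain ⟨S⟩ : Nonempty (Sylow p G) := inferInstance
  refine ⟨S, h S, ?_⟩
  intro R hR
  obtain ⟨T, hT⟩ := hR.exists_le_sylow
  have hS := h S
  have huniq := Sylow.unique_of_normal S hS
  have : T = S := Subsingleton.elim _ _
  rw [← this]
  exact hT

theorem isPClosed_of_normal [Finite G] {p : ℕ} [hp : Fact p.Prime] (P : Sylow p G)
    (h : (P : Subgroup G).Normal) : Cfsg.IsPClosed p G := by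
  intro Q
  have huniq := Sylow.unique_of_normal P h
  have : Q = P := Subsingleton.elim _ _
  rw [this]
  exact h

/-- A normal subgroup whose Sylow `p`-subgroup is trivial or not normal. -/
theorem not_dvd_of_isPClosed [Finite G] {p : ℕ} [hp : Fact p.Prime] (N : Subgroup G) [hN : N.Normal]
    (h : Cfsg.IsPClosed p N) (hOp : ∀ R : Subgroup G, R.Normal → IsPGroup p R → R = ⊥) :
    ¬ p ∣ Nat.card N := by
  obtain ⟨S, hS, hmax⟩ := exists_of_isPClosed h
  have hchar : (S : Subgroup N).Characteristic := Sylow.characteristic_of_normal S hS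
  have hnorm : ((S : Subgroup N).map N.subtype).Normal := inferInstance
  have hb := hOp _ hnorm (S.isPGroup'.map _)
  rw [Subgroup.map_eq_bot_iff_of_injective _ N.subtype_injective] at hb
  intro hd
  have h1 : p ∣ Nat.card (S : Subgroup N) := S.dvd_card_of_dvd_card hd
  rw [hb, Subgroup.card_bot] at h1
  exact hp.out.one_lt.ne' (Nat.dvd_one.mp h1)

/-- If `G` modulo a normal `p`-subgroup is `p`-closed, then so is `G`. -/
theorem isPClosed_of_quotient [Finite G] {p : ℕ} [hp : Fact p.Prime] (R : Subgroup G) [hR : R.Normal]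
    (hRp : IsPGroup p R) (h : Cfsg.IsPClosed p (G ⧸ R)) : Cfsg.IsPClosed p G := by
  obtain ⟨S, hS, hmax⟩ := exists_of_isPClosed h
  obtain ⟨P⟩ : Nonempty (Sylow p G) := inferInstance
  apply isPClosed_of_normal P
  have hle : (P : Subgroup G) ≤ (S : Subgroup (G ⧸ R)).comap (QuotientGroup.mk' R) := by
    rw [← Subgroup.map_le_iff_le_comap]
    exact hmax _ (P.isPGroup'.map _)
  have hp' : IsPGroup p ((S : Subgroup (G ⧸ R)).comap (QuotientGroup.mk' R)) := by
    apply IsPGroup.comap_of_ker_isPGroup S.isPGroup'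
    rw [QuotientGroup.ker_mk']
    exact hRp
  have heq := P.is_maximal' hp' hle
  have : (P : Subgroup G) = (S : Subgroup (G ⧸ R)).comap (QuotientGroup.mk' R) := heq.symm
  rw [this]
  exact hS.comap _

theorem isPClosed_of_isMulCommutative [Finite G] {p : ℕ} (h : ∀ a b : G, a * b = b * a) :
    Cfsg.IsPClosed p G := by
  intro P
  refine ⟨fun a ha g => ?_⟩
  rw [h g a, mul_inv_cancel_right]
  exact ha

/-- The structure of the minimal non-`p`-closed groups that are not simple. -/
theorem nonsimple_structure [Finite G] {p : ℕ} [hp : Fact p.Prime]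
    (hnc : ¬ Cfsg.IsPClosed p G) (hsub : ∀ H : Subgroup G, H ≠ ⊤ → Cfsg.IsPClosed p ↥H)
    (hquo : ∀ (N : Subgroup G) [N.Normal], N ≠ ⊥ → Cfsg.IsPClosed p (G ⧸ N))
    (hns : ¬ IsSimpleGroup G) :
    ∃ q : ℕ, q.Prime ∧ q ≠ p ∧ Nat.card G = p * q ^ orderOf (q : ZMod p) ∧
      ∃ A : Subgroup G, A.Normal ∧ Nat.card ↥A = q ^ orderOf (q : ZMod p) ∧
        Cfsg.IsElementaryAbelian q A ∧
        ∀ B : Subgroup G, B.Normal → B ≤ A → B = ⊥ ∨ B = A := by
  have hnt : Nontrivial G := by
    by_contra hcon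
    rw [not_nontrivial_iff_subsingleton] at hcon
    exact hnc (isPClosed_of_isMulCommutative fun a b => Subsingleton.elim _ _)
  have hOp : ∀ R : Subgroup G, R.Normal → IsPGroup p R → R = ⊥ := by
    intro R hR hRp
    by_contra hRb
    exact hnc (isPClosed_of_quotient R hRp (hquo R hRb))
  obtain ⟨M, hM, hMb, hMt⟩ : ∃ M : Subgroup G, M.Normal ∧ M ≠ ⊥ ∧ M ≠ ⊤ := by
    by_contra hcon
    push Not at hcon
    apply hns
    refine ⟨fun H hH => ?_⟩
    by_cases hb : H = ⊥
    · exact Or.inl hb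
    · exact Or.inr (hcon H hH hb)
  obtain ⟨N, ⟨hN, hNb, hNM⟩, hNmin⟩ : ∃ N : Subgroup G, (N.Normal ∧ N ≠ ⊥ ∧ N ≤ M) ∧
      ∀ B : Subgroup G, (B.Normal ∧ B ≠ ⊥ ∧ B ≤ M) → ¬ B < N := by
    obtain ⟨N, hN⟩ := (Set.toFinite {B : Subgroup G | B.Normal ∧ B ≠ ⊥ ∧ B ≤ M}).exists_minimal
      ⟨M, hM, hMb, le_rfl⟩
    exact ⟨N, hN.1, fun B hB hlt => hlt.not_ge (hN.2 hB hlt.le)⟩
  have hmin : ∀ B : Subgroup G, B.Normal → B ≤ N → B = ⊥ ∨ B = N := by
    intro B hB hBN
    by_cases hb : B = ⊥
    · exact Or.inl hb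
    · right
      by_contra hne
      exact hNmin B ⟨hB, hb, hBN.trans hNM⟩ (lt_of_le_of_ne hBN hne)
  have hNt : N ≠ ⊤ := fun h => hMt (eq_top_iff.mpr (h ▸ hNM))
  have hNp : ¬ p ∣ Nat.card N := not_dvd_of_isPClosed N (hsub N hNt) hOp
  obtain ⟨P⟩ : Nonempty (Sylow p G) := inferInstance
  have hPp : IsPGroup p (P : Subgroup G) := P.isPGroup'
  have hPn : ¬ (P : Subgroup G).Normal := fun h => hnc (isPClosed_of_normal P h)
  have hNP : N ⊔ (P : Subgroup G) = ⊤ := by
    by_contra hne
    apply hPn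
    have hnorm : (N ⊔ (P : Subgroup G)).Normal := by
      obtain ⟨S, hS, hmax⟩ := exists_of_isPClosed (hquo N hNb)
      have hle : (P : Subgroup G).map (QuotientGroup.mk' N) ≤ S := hmax _ (hPp.map _)
      have hdvd : ((P : Subgroup G).map (QuotientGroup.mk' N)).relIndex S ∣ 1 := by
        have h1 : ((P : Subgroup G).map (QuotientGroup.mk' N)).index ∣ (P : Subgroup G).index :=
          Subgroup.index_map_dvd _ (QuotientGroup.mk'_surjective N)
        have h2 : ((P : Subgroup G).map (QuotientGroup.mk' N)).relIndex S ∣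
            (P : Subgroup G).index := (relIndex_dvd_index_of_le hle).trans h1
        have h3 : ((P : Subgroup G).map (QuotientGroup.mk' N)).relIndex S ∣
            Nat.card (S : Subgroup (G ⧸ N)) := Subgroup.relIndex_dvd_card _ _
        obtain ⟨n, hn⟩ := IsPGroup.iff_card.mp S.isPGroup'
        rw [hn] at h3
        obtain ⟨k, hk, hk'⟩ := (Nat.dvd_prime_pow hp.out).mp h3
        rcases Nat.eq_zero_or_pos k with h0 | h0
        · rw [hk', h0, pow_zero]
        · exfalso
          apply P.not_dvd_index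
          rw [hk'] at h2
          exact (dvd_pow_self p h0.ne').trans h2
      have heq : (P : Subgroup G).map (QuotientGroup.mk' N) = S := by
        apply le_antisymm hle
        rw [← relIndex_eq_one]
        exact Nat.dvd_one.mp hdvd
      have h4 : N ⊔ (P : Subgroup G) = (S : Subgroup (G ⧸ N)).comap (QuotientGroup.mk' N) := by
        rw [← heq, Subgroup.comap_map_eq, QuotientGroup.ker_mk', sup_comm]
      rw [h4]
      exact hS.comap _
    obtain ⟨S, hS, hmax⟩ := exists_of_isPClosed (hsub _ hne)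
    have hchar : (S : Subgroup (N ⊔ (P : Subgroup G) : Subgroup G)).Characteristic :=
      Sylow.characteristic_of_normal S hS
    have hSn : ((S : Subgroup (N ⊔ (P : Subgroup G) : Subgroup G)).map
        (N ⊔ (P : Subgroup G)).subtype).Normal := inferInstance
    have hSp : IsPGroup p ((S : Subgroup (N ⊔ (P : Subgroup G) : Subgroup G)).map
        (N ⊔ (P : Subgroup G)).subtype) := S.isPGroup'.map _
    have hPS : (P : Subgroup G) ≤ (S : Subgroup (N ⊔ (P : Subgroup G) : Subgroup G)).map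
        (N ⊔ (P : Subgroup G)).subtype := by
      intro x hx
      have hx' : x ∈ N ⊔ (P : Subgroup G) := mem_sup_right hx
      have hsg : IsPGroup p ((P : Subgroup G).subgroupOf (N ⊔ (P : Subgroup G))) :=
        hPp.comap_of_injective _ (Subgroup.subtype_injective _)
      exact ⟨⟨x, hx'⟩, hmax _ hsg hx, rfl⟩
    have heq := P.is_maximal' hSp hPS
    have : (P : Subgroup G) = (S : Subgroup (N ⊔ (P : Subgroup G) : Subgroup G)).map
        (N ⊔ (P : Subgroup G)).subtype := heq.symm
    rw [this]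
    exact hSn
  have hPb : (P : Subgroup G) ≠ ⊥ := by
    intro h
    apply hPn
    rw [h]
    infer_instance
  obtain ⟨q, hq, hqp, hcG, hcN, hel⟩ := MinStruct.structure_of_minimal N (P : Subgroup G) hNp hPp
    hNP hOp hPb hmin (by
      intro R Q hR hQN hRQ hne r hr u hu
      obtain ⟨S, hS, hmax⟩ := exists_of_isPClosed (hsub _ hne)
      have hrK : r ∈ R ⊔ Q := mem_sup_left hr
      have huK : u ∈ R ⊔ Q := mem_sup_right hu
      have hsg : IsPGroup p (R.subgroupOf (R ⊔ Q)) :=
        hR.comap_of_injective _ (Subgroup.subtype_injective _)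
      have h1 : (⟨r, hrK⟩ : (R ⊔ Q : Subgroup G)) ∈ (S : Subgroup (R ⊔ Q : Subgroup G)) :=
        hmax _ hsg hr
      have h2 := hS.conj_mem _ (inv_mem h1) ⟨u, huK⟩
      have h3 := mul_mem h1 h2
      have hSp : IsPGroup p ((S : Subgroup (R ⊔ Q : Subgroup G)).map (R ⊔ Q).subtype) :=
        S.isPGroup'.map _
      have hd := MinStruct.disjoint_of_isPGroup hNp hSp
      rw [disjoint_iff] at hd
      have h4 : r * (u * r⁻¹ * u⁻¹) ∈ ((S : Subgroup (R ⊔ Q : Subgroup G)).map (R ⊔ Q).subtype) :=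
        ⟨_, h3, rfl⟩
      have h5 : r * (u * r⁻¹ * u⁻¹) ∈ N := by
        have : r * (u * r⁻¹ * u⁻¹) = (r * u * r⁻¹) * u⁻¹ := by group
        rw [this]
        exact N.mul_mem (hQN (hRQ r hr u hu)) (N.inv_mem (hQN hu))
      have h6 : r * (u * r⁻¹ * u⁻¹) ∈
          (((S : Subgroup (R ⊔ Q : Subgroup G)).map (R ⊔ Q).subtype) ⊓ N : Subgroup G) := ⟨h4, h5⟩
      rw [hd, mem_bot] at h6
      have h7 : (r * u * r⁻¹) * u⁻¹ = 1 := by rw [← h6]; group
      exact mul_inv_eq_one.mp h7)
  exact ⟨q, hq, hqp, hcG, N, hN, hcN, hel, hmin⟩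

end Cfsg.Agent.H469.MinClosed
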