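import Mathlib
import Cfsg.Agent.H469.RowPSp_mg
import Cfsg.Agent.Omega.Lie.Out.Orth_m3
import Cfsg.Agent.H469.RowPSL_m3
import Cfsg.Agent.TitsThree.KSideUDesc
import Cfsg.Agent.Phan.Ext
import Cfsg.Agent.S0281
import Cfsg.Agent.S0262
import Cfsg.Agent.ClassicalGeometry.PSUAutBasic
import Cfsg.Agent.Prune
set_option linter.all false
prune_inst 0x7f00000000000000000000000000000000000000000000000000000000000000000000000000000000000000000000000000000000000000000000000000000000000000000000000000000000000000003fffffffffffffffffffffffffffbeffbdffffffff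
open scoped Cfsg.Agent.FastGrp

-- part: H469/RowLong
section
/-!
# `NB p G` and long `SL₂(q)` subgroups

`NB.not_long` : `NB p G`, `G` simple non-abelian, `HasLong q G` : `p ∤ q (q ^ 2 - 1)`.
-/

set_option autoImplicit false

namespace Cfsg.Agent.H469

open Subgroup Cfsg.Agent.OddHalf.LongSL

theorem two_le_of_field {F : Type*} [Field F] [Fintype F] : 2 ≤ Fintype.card F := by
  have := Fintype.one_lt_card (α := F)
  omega

theorem char_of_dvd_card {F : Type*} [Field F] [Fintype F] {p : ℕ} (hp : p.Prime) (h : p ∣ Fintype.card F) :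
    CharP F p := by
  obtain ⟨r, hrc⟩ := CharP.exists F
  obtain ⟨k, hr, hk⟩ := FiniteField.card F r
  rw [hk] at h
  have h1 := (Nat.prime_dvd_prime_iff_eq hp hr).mp (hp.dvd_of_dvd_pow h)
  rwa [h1]

theorem NB.not_long {G : Type*} [Group G] [Finite G] [IsSimpleGroup G] (hna : ∃ a b : G, a * b ≠ b * a) {p : ℕ}
    [hp : Fact p.Prime] (h : NB p G) (hp2 : p ≠ 2) {q : ℕ} (hL : HasLong q G) : ¬ p ∣ q * (q ^ 2 - 1) := by
  intro hd
  obtain ⟨j, J, hj, hjJ, hJc, -, F, _, _, hF, ho, ⟨e⟩⟩ := hL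
  subst hF
  have hF : 3 < Fintype.card F ∨ CharP F p := by
    by_cases h3 : p ∣ Fintype.card F
    · exact Or.inr (char_of_dvd_card hp.out h3)
    · left
      by_contra hcon
      have h4 := two_le_of_field (F := F)
      have h5 : Fintype.card F = 3 := by
        obtain ⟨k, hk⟩ := ho
        omega
      rw [h5] at hd h3
      have h6 : p ∣ 3 * 2 ^ 3 := by simpa using hd
      rcases hp.out.dvd_mul.mp h6 with h7 | h7
      · exact h3 h7
      · exact hp2 ((Nat.prime_dvd_prime_iff_eq hp.out Nat.prime_two).mp (hp.out.dvd_of_dvd_pow h7))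
  have h1 := h.sl_range hp2 hF (J.subtype.comp e.symm.toMonoidHom)
    (J.subtype_injective.comp e.symm.injective) hd
  have h2 : J = ⊤ := by
    rw [eq_top_iff, ← h1]
    rintro _ ⟨x, rfl⟩
    exact (e.symm x).2
  have h3 : j ∈ center G := by
    rw [mem_center_iff]
    intro g
    have h4 : g ∈ centralizer ({j} : Set G) := hJc (by rw [h2]; exact mem_top _)
    exact (mem_centralizer_singleton_iff.mp h4)
  obtain ⟨a, b, hab⟩ := hna
  rcases (inferInstance : (center G).Normal).eq_bot_or_eq_top with h5 | h5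
  · rw [h5, mem_bot] at h3
    rw [h3, orderOf_one] at hj
    omega
  · have ha : a ∈ center G := by rw [h5]; exact mem_top _
    exact hab ((mem_center_iff.mp ha b).symm)

end Cfsg.Agent.H469
end

-- part: H469/RowPSU
section
/-!
# `NB p G` for `PSU_n(q)`, `p` not the characteristic
-/

set_option autoImplicit false

namespace Cfsg.Agent.H469.RowPSU

open Cfsg Cfsg.Agent.LieClassical.HermBasic Cfsg.Agent.LieClassical.HermSiegel
open Cfsg.Agent.TitsThree.Siegel Cfsg.Agent.TitsThree.KSideU Cfsg.Agent.TitsThree.KSideUDesc Module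

variable {F : Type} [Field F] [Fintype F] {q N : ℕ}

/-- Subspaces without isotropic vectors have dimension at most one. -/
theorem aniso_le (hF : Fintype.card F = q ^ 2) (W : Submodule F (Fin N → F))
    (h : ∀ u ∈ W, hermForm N F q u u = 0 → u = 0) : finrank F W ≤ 1 := by
  by_contra hcon
  have hW : W ≠ ⊥ := by
    rintro rfl
    rw [finrank_bot] at hcon
    omega
  obtain ⟨u, hu, hu0⟩ := Submodule.exists_mem_ne_zero_of_ne_bot hW
  have h1 : ∃ v ∈ W, v ∉ Submodule.span F {u} := by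
    by_contra h2
    push Not at h2
    have h3 : finrank F W ≤ finrank F (Submodule.span F {u}) := Submodule.finrank_mono h2
    rw [finrank_span_singleton hu0] at h3
    exact hcon h3
  obtain ⟨v, hv, hvu⟩ := h1
  have ha : hermForm N F q u u ≠ 0 := fun h2 => hu0 (h u hu h2)
  set a := hermForm N F q u u with ha'
  set v' := v - (hermForm N F q v u * a⁻¹) • u with hv'
  have hv'W : v' ∈ W := W.sub_mem hv (W.smul_mem _ hu)
  have hv'0 : v' ≠ 0 := by
    intro h2
    apply hvu
    rw [Submodule.mem_span_singleton]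
    exact ⟨_, (sub_eq_zero.mp h2).symm⟩
  have h2 : hermForm N F q v' u = 0 := by
    rw [hv', herm_sub_left, herm_smul_left, ← ha', mul_assoc, inv_mul_cancel₀ ha, mul_one, sub_self]
  have h3 : hermForm N F q u v' = 0 := herm_eq_zero_swap hF h2
  have hb : hermForm N F q v' v' ≠ 0 := fun h2 => hv'0 (h v' hv'W h2)
  set b := hermForm N F q v' v' with hb'
  have hafix : a ^ q = a := herm_self_pow hF u
  have hbfix : b ^ q = b := herm_self_pow hF v'
  obtain ⟨l, hl⟩ := exists_norm_eq hF (c := -(a * b⁻¹)) (by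
    rw [neg_pow_q hF, mul_pow, inv_pow, hafix, hbfix])
  have h4 : hermForm N F q (u + l • v') (u + l • v') = 0 := by
    rw [herm_add_left, herm_add_right hF, herm_add_right hF, herm_smul_left, herm_smul_right, herm_smul_left,
      herm_smul_right, h2, h3, ← ha', ← hb']
    have : l * (l ^ q * b) = (l * l ^ q) * b := by ring
    rw [this, hl, neg_mul, mul_assoc, inv_mul_cancel₀ hb]
    ring
  have h5 := h _ (W.add_mem hu (W.smul_mem l hv'W)) h4
  have h6 : u = -(l • v') := eq_neg_of_add_eq_zero_left h5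
  have h7 : hermForm N F q (-(l • v')) u = 0 := by
    rw [herm_neg_left, herm_smul_left, h2, mul_zero, neg_zero]
  rw [← h6] at h7
  exact ha h7

theorem iu_iso (hF : Fintype.card F = q ^ 2) : ∀ g ∈ IU F q N, (HU hF N).IsIso g := by
  rintro _ ⟨g, rfl⟩ v w
  exact Cfsg.Agent.Phan.mat_isom g v w

theorem nbr_iu {p : ℕ} (hp : p.Prime) (h : NBr p (PSU N F q)) : NBr p (IU F q N) :=
  (h.of_quot _ le_rfl hp).of_hom (ofRange F q N).toMonoidHom (ofRange F q N).injective

theorem exists_sie (hF : Fintype.card F = q ^ 2) (u w : Fin N → F) (hu : (HU hF N).h u u = 0)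
    (hw : (HU hF N).h u w = 0) : ∃ c, (HU hF N).sie u w c hu hw ∈ IU F q N := by
  obtain ⟨c, hc⟩ := (PU hF N).ex w
  exact ⟨c, sie_mem hF hu hw hc⟩

theorem nd (hF : Fintype.card F = q ^ 2) {u : Fin N → F} (hu : u ≠ 0) : ∃ v, (HU hF N).h v u ≠ 0 := by
  obtain ⟨v, hv⟩ := exists_herm_ne_zero hF hu
  exact ⟨v, fun h => hv (herm_eq_zero_swap hF h)⟩

theorem finite_gl : Finite ((Fin N → F) ≃ₗ[F] (Fin N → F)) :=
  Finite.of_injective (fun g : (Fin N → F) ≃ₗ[F] (Fin N → F) => (g : (Fin N → F) → (Fin N → F)))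
    DFunLike.coe_injective

/-- the first step: cyclic or `p ∣ q ^ 2 - 1` -/
theorem step_one (hF : Fintype.card F = q ^ 2) {p : ℕ} [hp : Fact p.Prime] (hp2 : p ≠ 2)
    (hpF : ¬ p ∣ Fintype.card F) (h : NBr p (PSU N F q)) :
    (∀ P : Subgroup (PSU N F q), IsPGroup p P → IsCyclic P) ∨ p ∣ q ^ 2 - 1 := by
  by_cases hd : p ∣ q ^ 2 - 1
  · exact Or.inr hd
  left
  have := finite_gl (F := F) (N := N)
  refine isCyclic_of_surj (toPSU F q N) toPSU_surjective ?_
  intro Q hQ
  rcases FixVec.main (H := HU hF N) (I := IU F q N) (N := IU F q N) (iu_iso hF) le_rfl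
    (fun g hg n hn => Subgroup.mul_mem _ (Subgroup.mul_mem _ hg hn) (Subgroup.inv_mem _ hg)) hp2
    (by rwa [Nat.card_eq_fintype_card]) (nbr_iu hp.out h) (fun u => hermForm N F q u u = 0) (fun u hu => hu)
    (fun u _ hu => nd hF hu) (fun u w _ _ hu hw => exists_sie hF u w hu hw) (k := 1)
    (fun W hW => aniso_le hF W hW) Q hQ with h3 | ⟨d, h4, h5, h6⟩
  · exact h3
  · have : d = 1 := by omega
    rw [this, pow_one, Nat.card_eq_fintype_card, hF] at h6
    exact absurd h6 hd

theorem card_su2 (hF : Fintype.card F = q ^ 2) : ∃ (K : Type) (_ : Field K) (_ : Fintype K),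
    Fintype.card K = q ∧ Nonempty (Matrix.SpecialLinearGroup (Fin 2) K ≃* SU 2 F q) := by
  obtain ⟨r, n, hr, -, hq, hn⟩ := exists_prime_pow hF
  have : Fact r.Prime := ⟨hr⟩
  have : Fintype (GaloisField r n) := Fintype.ofFinite _
  have hK : Fintype.card (GaloisField r n) = q := by
    rw [← Nat.card_eq_fintype_card, GaloisField.card r n hn.ne', hq]
  obtain ⟨e⟩ := Cfsg.Agent.S0281.result (F := F) (K := GaloisField r n) hF hK
  exact ⟨GaloisField r n, inferInstance, inferInstance, hK, ⟨e.symm⟩⟩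

/-- the block embedding fixes vectors outside the block -/
theorem emb_fix (hF : Fintype.card F = q ^ 2) (h : 0 + 2 ≤ N) (g : SU 2 F q) {v : Fin N → F}
    (h0 : v ⟨0, by omega⟩ = 0) (h1 : v ⟨1, by omega⟩ = 0) :
    act (Cfsg.Agent.Phan.emb hF 0 h g) v = v := by
  funext x
  change (Cfsg.Agent.Phan.mat (Cfsg.Agent.Phan.emb hF 0 h g)).mulVec v x = v x
  by_cases hx : 2 ≤ (x : ℕ)
  · exact Cfsg.Agent.Phan.emb_mulVec_lt hF h g v (Or.inr (by omega))
  · obtain ⟨i, rfl⟩ : ∃ i : Fin 2, x = Cfsg.Agent.Phan.sh 0 h i :=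
      ⟨⟨x, by omega⟩, Fin.ext (by rw [Cfsg.Agent.Phan.sh_val]; simp)⟩
    have h2 : (v ∘ Cfsg.Agent.Phan.sh 0 h : Fin 2 → F) = 0 := by
      funext j
      fin_cases j
      · exact h0
      · exact h1
    rw [Cfsg.Agent.Phan.emb_mulVec_sh, h2, Matrix.mulVec_zero]
    exact (congrFun h2 i).symm

/-- dimension at least four -/
theorem step_two (hF : Fintype.card F = q ^ 2) (hN : 4 ≤ N) {p : ℕ} [hp : Fact p.Prime]
    (hpF : ¬ p ∣ Fintype.card F) (h : NBr p (PSU N F q)) : ¬ p ∣ q ^ 2 - 1 := by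
  intro hd
  obtain ⟨K, _, _, hK, ⟨e⟩⟩ := card_su2 hF
  have hfin := finite_gl (F := F) (N := N)
  have hc : Nat.card (SU 2 F q) = q * (q ^ 2 - 1) := by
    rw [← Nat.card_congr e.toEquiv, Cfsg.Agent.ClassicalGeometry.PSL2Basic.card_SL2, hK]
  have : Finite (SU 2 F q) := Nat.finite_of_card_ne_zero (by
    rw [hc]
    have h2 := two_le hF
    have h3 : 4 ≤ q ^ 2 := by nlinarith
    have : 0 < q * (q ^ 2 - 1) := Nat.mul_pos (by omega) (by omega)
    omega)
  obtain ⟨g, hg⟩ := exists_prime_orderOf_dvd_card' (G := SU 2 F q) p (by rw [hc]; exact hd.mul_left q)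
  obtain ⟨r, hr, hrc, hrp⟩ := FixVec.exists_char (F := F) (p := p) (by rwa [Nat.card_eq_fintype_card])
  obtain ⟨m, hm⟩ := exists_norm_eq hF (c := -1) (by rw [neg_pow_q hF, one_pow])
  have h02 : 0 + 2 ≤ N := by omega
  let a : IU F q N := ⟨toLin F q N (Cfsg.Agent.Phan.emb hF 0 h02 g), ⟨_, rfl⟩⟩
  let u : Fin N → F := Pi.single ⟨2, by omega⟩ 1 + m • Pi.single ⟨3, by omega⟩ 1
  have h32 : (⟨3, by omega⟩ : Fin N) ≠ ⟨2, by omega⟩ := by simp
  have hu2 : u ⟨2, by omega⟩ = 1 := by simp [u]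
  have hu0 : u ≠ 0 := by
    intro h0
    rw [h0] at hu2
    simp at hu2
  have hu : hermForm N F q u u = 0 := by
    have h23 : (⟨2, by omega⟩ : Fin N) ≠ ⟨3, by omega⟩ := by simp
    have e1 : ∀ i j : Fin N, hermForm N F q (Pi.single i 1) (Pi.single j 1) = if i = j then 1 else 0 := by
      intro i j
      rw [herm_single_left, one_mul]
      by_cases hij : i = j
      · subst hij; simp
      · rw [if_neg hij, Pi.single_eq_of_ne hij, zero_pow_q hF]
    rw [herm_add_left, herm_add_right hF, herm_add_right hF, herm_smul_left, herm_smul_right, herm_smul_left,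
      herm_smul_right, e1, e1, e1, e1, if_pos rfl, if_pos rfl, if_neg h23, if_neg (Ne.symm h23)]
    linear_combination hm
  have ha1 : (a : (Fin N → F) ≃ₗ[F] (Fin N → F)) = 1 := by
    refine FixVec.eq_one_of_fix (H := HU hF N) (IU F q N) (iu_iso hF) hr hp.out hrp a.2 ?_ ?_ (u := u) hu ?_
      (nd hF hu0) (fun w hw => exists_sie hF u w hu hw)
    · change (toLin F q N (Cfsg.Agent.Phan.emb hF 0 h02 g)) ^ p = 1
      rw [← map_pow, ← map_pow, ← hg, pow_orderOf_eq_one, map_one, map_one]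
    · intro R hRI hRr hRa
      refine NBr.normal' (I := IU F q N) (fun g hg n hn =>
        Subgroup.mul_mem _ (Subgroup.mul_mem _ hg hn) (Subgroup.inv_mem _ hg)) hp.out (nbr_iu hp.out h) hr hrp a.2 ?_
        hRI hRr hRa
      change (toLin F q N (Cfsg.Agent.Phan.emb hF 0 h02 g)) ^ p = 1
      rw [← map_pow, ← map_pow, ← hg, pow_orderOf_eq_one, map_one, map_one]
    · change act (Cfsg.Agent.Phan.emb hF 0 h02 g) u = u
      exact emb_fix hF h02 g (by simp [u]) (by simp [u])
  have h4 : g = 1 := Cfsg.Agent.Phan.emb_injective hF 0 h02 (toLin_injective (by rw [map_one, map_one]; exact ha1))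
  rw [h4, orderOf_one] at hg
  exact hp.out.one_lt.ne hg

/-- `SL₂(q) → PSU_n(q)` is injective for `n ≥ 3` -/
theorem inj_psu (hF : Fintype.card F = q ^ 2) (hN : 3 ≤ N) :
    Function.Injective ((QuotientGroup.mk' (Subgroup.center (SU N F q))).comp
      (Cfsg.Agent.Phan.emb hF 0 (by omega : 0 + 2 ≤ N))) := by
  rw [injective_iff_map_eq_one]
  intro g hg
  have h1 : Cfsg.Agent.Phan.emb hF 0 (by omega : 0 + 2 ≤ N) g ∈ Subgroup.center (SU N F q) :=
    (QuotientGroup.eq_one_iff _).1 hg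
  obtain ⟨c, -, -, hc⟩ := Cfsg.Agent.ClassicalGeometry.PSUAutBasic.exists_scalar_of_mem_center hF hN h1
  have h2 : act (Cfsg.Agent.Phan.emb hF 0 (by omega : 0 + 2 ≤ N) g) (Pi.single ⟨2, by omega⟩ 1) =
      Pi.single ⟨2, by omega⟩ 1 := emb_fix hF _ g (by simp) (by simp)
  rw [hc] at h2
  have h3 : c = 1 := by
    have := congrFun h2 ⟨2, by omega⟩
    simpa using this
  apply Cfsg.Agent.Phan.emb_injective hF 0 (by omega : 0 + 2 ≤ N)
  rw [map_one]
  apply mat_injective
  rw [mat_one]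
  refine Matrix.ext_of_mulVec_single fun j => ?_
  have h4 := hc (Pi.single j 1)
  rw [h3, one_smul] at h4
  rw [Matrix.one_mulVec]
  exact h4

theorem row_cross (hF : Fintype.card F = q ^ 2) (hN : 3 ≤ N) (hq : ¬ (N = 3 ∧ q = 2)) {p : ℕ} [hp : Fact p.Prime]
    (hp2 : p ≠ 2) (hpF : ¬ p ∣ Fintype.card F) (h : NB p (PSU N F q)) (h' : NBr p (PSU N F q))
    (P : Subgroup (PSU N F q)) (hP : IsPGroup p P) : IsCyclic P := by
  rcases step_one hF hp2 hpF h' with h1 | h1
  · exact h1 P hP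
  rcases Nat.lt_or_ge N 4 with h2 | h2
  · obtain ⟨K, _, _, hK, ⟨e⟩⟩ := card_su2 hF
    have hq2 := two_le hF
    have hq3 : 3 < Fintype.card K := by
      rw [hK]
      by_contra hcon
      have hq23 : q = 2 ∨ q = 3 := by omega
      rcases hq23 with h3 | h3
      · exact hq ⟨by omega, h3⟩
      · subst h3
        have h4 : p ∣ 2 ^ 3 := by simpa using h1
        exact hp2 ((Nat.prime_dvd_prime_iff_eq hp.out Nat.prime_two).mp (hp.out.dvd_of_dvd_pow h4))
    let φ := ((QuotientGroup.mk' (Subgroup.center (SU N F q))).comp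
      (Cfsg.Agent.Phan.emb hF 0 (by omega : 0 + 2 ≤ N))).comp e.toMonoidHom
    have hφ : Function.Injective φ := (inj_psu hF hN).comp e.injective
    have h5 := h.sl_range hp2 (Or.inl hq3) φ hφ (by rw [hK]; exact h1.mul_left q)
    obtain ⟨r, hr, hrc, hrp⟩ := FixVec.exists_char (F := K) (p := p) (by
      rw [Nat.card_eq_fintype_card, hK]
      intro h6
      apply hpF
      rw [hF]
      exact dvd_pow h6 two_ne_zero)
    have : Fact r.Prime := ⟨hr⟩
    refine isCyclic_of_surj φ (MonoidHom.range_eq_top.mp h5) ?_ P hP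
    intro Q hQ
    exact Cfsg.Agent.S0262.isCyclic_of_isPGroup r p hp2 (Ne.symm hrp) Q hQ
  · exact absurd h1 (step_two hF h2 hpF h')

end Cfsg.Agent.H469.RowPSU
end

-- part: H469/RowClass
section
/-!
# `NB p G` and the classical groups

`row_psl`, `row_psp`, `row_psu`, `row_omega_odd`, `row_omega_plus`, `row_omega_minus` : in a simple classical group with
`NB p G`, `p` odd, the Sylow `p`-subgroups are cyclic.
-/

set_option autoImplicit false

namespace Cfsg.Agent.H469.RowClass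

open Subgroup Cfsg Cfsg.Agent.OddHalf.LongSL

variable {G : Type*} [Group G] [Finite G] [IsSimpleGroup G] {p : ℕ} [hp : Fact p.Prime]

theorem odd_of_dvd {F : Type} [Field F] [Fintype F] (hp2 : p ≠ 2) (h : p ∣ Fintype.card F) :
    Odd (Fintype.card F) := by
  have := char_of_dvd_card hp.out h
  obtain ⟨k, -, hk⟩ := FiniteField.card F p
  rw [hk]
  exact (hp.out.odd_of_ne_two hp2).pow

theorem not_own (hna : ∃ a b : G, a * b ≠ b * a) (h : NB p G) (hp2 : p ≠ 2) {q : ℕ} (hL : HasLong q G)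
    (hq : p ∣ q) : False :=
  h.not_long hna hp2 hL (hq.mul_right _)

theorem row_psl2 {F : Type} [Field F] [Fintype F] (hp2 : p ≠ 2) (hF : p ∣ Fintype.card F)
    (h : NB p (Matrix.ProjectiveSpecialLinearGroup (Fin 2) F))
    (P : Subgroup (Matrix.ProjectiveSpecialLinearGroup (Fin 2) F)) (hP : IsPGroup p P) : IsCyclic P := by
  have hFp : CharP F p := char_of_dvd_card hp.out hF
  let ι : ZMod p →+* F := ZMod.castHom (dvd_refl p) F
  let φ : Matrix.SpecialLinearGroup (Fin 2) (ZMod p) →* Matrix.ProjectiveSpecialLinearGroup (Fin 2) F :=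
    (QuotientGroup.mk' _).comp (Matrix.SpecialLinearGroup.map ι)
  have hinj : Function.Injective (Matrix.SpecialLinearGroup.map (n := Fin 2) ι) := by
    intro a b hab
    apply Subtype.ext
    have h1 : ι.mapMatrix (a : Matrix (Fin 2) (Fin 2) (ZMod p)) = ι.mapMatrix (b : Matrix (Fin 2) (Fin 2) (ZMod p)) :=
      congrArg Subtype.val hab
    exact Matrix.map_injective ι.injective h1
  have hker : φ.ker ≤ center (Matrix.SpecialLinearGroup (Fin 2) (ZMod p)) := by
    intro x hx
    have h1 : Matrix.SpecialLinearGroup.map ι x ∈ center (Matrix.SpecialLinearGroup (Fin 2) F) := by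
      have h2 : QuotientGroup.mk' (center (Matrix.SpecialLinearGroup (Fin 2) F))
          (Matrix.SpecialLinearGroup.map ι x) = 1 := hx
      rwa [← MonoidHom.mem_ker, QuotientGroup.ker_mk'] at h2
    rw [mem_center_iff]
    intro g
    apply hinj
    rw [map_mul, map_mul]
    exact mem_center_iff.mp h1 _
  have hr := NB.sl_range' h hp2 φ hker
  refine isCyclic_of_surj φ (MonoidHom.range_eq_top.mp hr) ?_ P hP
  intro Q hQ
  obtain ⟨R, hR⟩ := hQ.exists_le_sylow
  have h3 : ¬ p ^ 2 ∣ Nat.card (Matrix.SpecialLinearGroup (Fin 2) (ZMod p)) := by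
    rw [Cfsg.Agent.ClassicalGeometry.PSL2Basic.card_SL2, ZMod.card]
    intro hd
    rw [pow_two] at hd
    have h4 : p ∣ p ^ 2 - 1 := by
      have := (Nat.mul_dvd_mul_iff_left hp.out.pos).mp hd
      simpa [pow_two] using this
    have h5 : p ∣ p ^ 2 := dvd_pow_self p two_ne_zero
    have h6 : 1 ≤ p ^ 2 := Nat.one_le_pow _ _ hp.out.pos
    have h7 : p ∣ 1 := by
      have := Nat.dvd_sub h5 h4
      have h8 : p ^ 2 - (p ^ 2 - 1) = 1 := by omega
      rwa [h8] at this
    exact hp.out.one_lt.ne' (Nat.dvd_one.mp h7)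
  have := isCyclic_of_card h3 R
  exact isCyclic_of_injective (Subgroup.inclusion hR) (Subgroup.inclusion_injective hR)

theorem row_psl (hna : ∃ a b : G, a * b ≠ b * a) (hp2 : p ≠ 2) (h : NB p G) (hG : Cfsg.IsPSL G) (P : Sylow p G) :
    IsCyclic (P : Subgroup G) := by
  obtain ⟨F, _, _, n, hn, hn2, ⟨e⟩⟩ := hG
  have hfin : Finite (Matrix.ProjectiveSpecialLinearGroup (Fin n) F) := Finite.of_equiv _ e.toEquiv
  by_cases hF : p ∣ Fintype.card F
  · by_cases h2 : n = 2
    · subst h2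
      exact sylow_congr e (fun Q => row_psl2 hp2 hF (h.congr e) Q Q.isPGroup') P
    · exact (not_own hna h hp2 ((Mat.hasLong_psl (odd_of_dvd hp2 hF) (by omega : 3 ≤ n)).of_equiv e.symm) hF).elim
  · refine sylow_congr e (fun Q => ?_) P
    have h1 : NBr p (Matrix.ProjectiveSpecialLinearGroup (Fin n) F) :=
      (NBr.of_nb hna h).of_hom e.symm.toMonoidHom e.symm.injective
    exact isCyclic_of_surj (QuotientGroup.mk' (center (Matrix.SpecialLinearGroup (Fin n) F)))
      (QuotientGroup.mk'_surjective _) (RowPSL.row_cross hp2 hF (h1.of_quot _ le_rfl hp.out)) Q Q.isPGroup'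

theorem row_psp (hna : ∃ a b : G, a * b ≠ b * a) (hp2 : p ≠ 2) (h : NB p G) (hG : Cfsg.IsPSp G) (P : Sylow p G) :
    IsCyclic (P : Subgroup G) := by
  obtain ⟨F, _, _, m, hm, -, ⟨e⟩⟩ := hG
  have hfin : Finite (PSp m F) := Finite.of_equiv _ e.toEquiv
  by_cases hF : p ∣ Fintype.card F
  · exact (not_own hna h hp2 ((Mat.hasLong_psp (odd_of_dvd hp2 hF) hm).of_equiv e.symm) hF).elim
  · refine sylow_congr e (fun Q => ?_) P
    have h1 : NBr p (PSp m F) := (NBr.of_nb hna h).of_hom e.symm.toMonoidHom e.symm.injective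
    exact RowPSp.row_cross hp2 hF h1 Q Q.isPGroup'

theorem row_psu (hna : ∃ a b : G, a * b ≠ b * a) (hp2 : p ≠ 2) (h : NB p G) (hG : Cfsg.IsPSU G) (P : Sylow p G) :
    IsCyclic (P : Subgroup G) := by
  obtain ⟨F, _, _, n, q, hF, hn, hnq, ⟨e⟩⟩ := hG
  have hfin : Finite (PSU n F q) := Finite.of_equiv _ e.toEquiv
  by_cases hpF : p ∣ Fintype.card F
  · have hoq : Odd q := (Nat.odd_pow_iff two_ne_zero).1 (hF ▸ odd_of_dvd hp2 hpF)
    have hpq : p ∣ q := hp.out.dvd_of_dvd_pow (hF ▸ hpF)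
    exact (not_own hna h hp2 ((Mat.hasLong_psu hF hoq hn).of_equiv e.symm) hpq).elim
  · refine sylow_congr e (fun Q => ?_) P
    have h1 : NBr p (PSU n F q) := (NBr.of_nb hna h).of_hom e.symm.toMonoidHom e.symm.injective
    exact RowPSU.row_cross hF hn hnq hp2 hpF (h.congr e) h1 Q Q.isPGroup'

theorem row_omega_odd (hna : ∃ a b : G, a * b ≠ b * a) (hp2 : p ≠ 2) (h : NB p G) (hG : Cfsg.IsPOmegaOdd G)
    (P : Sylow p G) : IsCyclic (P : Subgroup G) := by
  obtain ⟨F, _, _, m, hm, ho, ⟨e⟩⟩ := hG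
  have hfin : Finite (POmega F (quadFormOdd m F)) := Finite.of_equiv _ e.toEquiv
  by_cases hF : p ∣ Fintype.card F
  · have := char_of_dvd_card hp.out hF
    exact (not_own hna h hp2 ((Orth.hasLong_odd F (hp.out.odd_of_ne_two hp2) hm).of_equiv e.symm) hF).elim
  · refine sylow_congr e (fun Q => ?_) P
    have h1 : NBr p (POmega F (quadFormOdd m F)) := (NBr.of_nb hna h).of_hom e.symm.toMonoidHom e.symm.injective
    exact RowOrth.row_odd hm ho hp2 hF h1 Q Q.isPGroup'

theorem row_omega_plus (hna : ∃ a b : G, a * b ≠ b * a) (hp2 : p ≠ 2) (h : NB p G) (hG : Cfsg.IsPOmegaPlus G)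
    (P : Sylow p G) : IsCyclic (P : Subgroup G) := by
  obtain ⟨F, _, _, m, hm, ⟨e⟩⟩ := hG
  have hfin : Finite (POmega F (quadFormPlus m F)) := Finite.of_equiv _ e.toEquiv
  by_cases hF : p ∣ Fintype.card F
  · have := char_of_dvd_card hp.out hF
    exact (not_own hna h hp2 ((Orth.hasLong_plus F (hp.out.odd_of_ne_two hp2) (by omega : 3 ≤ m)).of_equiv e.symm)
      hF).elim
  · refine sylow_congr e (fun Q => ?_) P
    have h1 : NBr p (POmega F (quadFormPlus m F)) := (NBr.of_nb hna h).of_hom e.symm.toMonoidHom e.symm.injective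
    exact RowOrth.row_plus (by omega : 3 ≤ m) hp2 hF h1 Q Q.isPGroup'

theorem row_omega_minus (hna : ∃ a b : G, a * b ≠ b * a) (hp2 : p ≠ 2) (h : NB p G) (hG : Cfsg.IsPOmegaMinus G)
    (P : Sylow p G) : IsCyclic (P : Subgroup G) := by
  obtain ⟨F, _, _, m, a, b, hm, hab, ⟨e⟩⟩ := hG
  have hfin : Finite (POmega F (quadFormMinus (m - 1) F a b)) := Finite.of_equiv _ e.toEquiv
  by_cases hF : p ∣ Fintype.card F
  · have := char_of_dvd_card hp.out hF
    exact (not_own hna h hp2 ((Orth.hasLong_minus F (hp.out.odd_of_ne_two hp2) a b hab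
      (by omega : 3 ≤ m - 1)).of_equiv e.symm) hF).elim
  · refine sylow_congr e (fun Q => ?_) P
    have h1 : NBr p (POmega F (quadFormMinus (m - 1) F a b)) :=
      (NBr.of_nb hna h).of_hom e.symm.toMonoidHom e.symm.injective
    exact RowOrth.row_minus (by omega : 3 ≤ m - 1) a b hab hp2 hF h1 Q Q.isPGroup'

end Cfsg.Agent.H469.RowClass
end
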