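import Cfsg.Agent.H468.RowConway
import Cfsg.Agent.H393.Iso.J23
import Cfsg.Agent.Foote.Row.JThree
import Cfsg.Agent.S1711
import Cfsg.Agent.S0365
import Cfsg.Agent.S1679
import Cfsg.Agent.S1710
import Cfsg.Agent.S1693
import Cfsg.Agent.S1686
import Cfsg.Agent.S1688
import Cfsg.Agent.S1055
import Cfsg.Agent.S1059
import Cfsg.Agent.S0243
import Cfsg.Agent.S0295
import Cfsg.Agent.S1696
import Cfsg.Agent.Fischer.Y322Iso
import Cfsg.Agent.CTwoTab.He
import Cfsg.Agent.CTwoTab.Ru
import Cfsg.Agent.H237.EvenFi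
import Cfsg.Agent.CTwoTab.Monster
import Cfsg.Agent.RuD.IdxPermG_m3
import Cfsg.Agent.HN.A12Group
import Cfsg.Agent.HN.XWords
import Cfsg.Agent.KFacts.He.Classes
import Cfsg.Agent.Held.HeldCardEq_m3
import Cfsg.Agent.KFacts.Baby.RowB_m3
import Cfsg.Agent.BM.KHAll
import Cfsg.Agent.MonsterX.ThOneClass
import Cfsg.Agent.S1682
import Cfsg.Agent.S0245
import Cfsg.Agent.S0246
import Cfsg.Agent.S0270
import Cfsg.Agent.H468.RowTits
import Cfsg.Prelude.Def_Classification2
import Cfsg.Agent.H469.RowPSL_m3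
import Cfsg.Agent.H469.RowClass
import Cfsg.Agent.H469.RowRank
import Cfsg.Agent.H469.RowTwF
import Cfsg.Agent.FastGrp
import Cfsg.Agent.Prune
set_option linter.all false
prune_inst 0x7f00000000000000000000000000000000000000000000000000000000000000000000000000000000000000000000000000000000000000000000000000000000000000000000000000000000000000003fffffffffffffffffffffffffffbeffbdffffffff
open scoped Cfsg.Agent.FastGrp

-- part: H468/RowJanko
section
/-!
# `NB p` fails in the Janko groups
-/

set_option autoImplicit false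

namespace Cfsg.Agent.H468

open Subgroup Cfsg

theorem not_of_sheet {G : Type*} [Group G] [Finite G] {p : ℕ} [Fact p.Prime] (hp2 : p ≠ 2) {z : G}
    {P R : Subgroup G} (S : OddHalf.D8.Sheet.SheetE z P R) {n m : ℕ}
    (hG : Nat.card G = n) (hc : Nat.card P = m) (hmn : m < n) (hd : p ∣ m) : ¬ NB p G := by
  refine not_of_cent hp2 Nat.prime_two (K := P) (R := R) ?_ (by rw [hc]; exact hd) S.RP S.Rn S.R2
    S.cR
  intro h
  rw [h, card_top, hG] at hc
  omega

theorem nb_j2 {G : Type*} [Group G] [Finite G] {p : ℕ} [Fact p.Prime] (h : Spor.IsoJ2 G)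
    (hp : p = 3 ∨ p = 5) : ¬ NB p G := by
  have hcard := NotCT.Orders.j2 h
  obtain ⟨t, u, Q, v, ρ, D⟩ := Cfsg.Agent.KFacts.J2.Facts.exists_dat_of h
  refine not_of_inv (by rintro rfl; omega) (t := t) hcard D.cardC (by norm_num)
    (CTwoTab.JTwo.at_t D).bal ?_
  rcases hp with rfl | rfl <;> norm_num

theorem nb_j3 {G : Type*} [Group G] [Finite G] {p : ℕ} [Fact p.Prime] (h : Spor.IsoJ3 G)
    (hp : p = 3) : ¬ NB p G := by
  have hcard := NotCT.Orders.j3 h
  obtain ⟨z, Q, v, ρ, M, hc, -, S⟩ := Foote.Row.JThree.sheet' G h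
  refine not_of_sheet (by rintro rfl; omega) S hcard hc (by norm_num) ?_
  subst hp
  norm_num

theorem nb_j4 {G : Type*} [Group G] [Finite G] {p : ℕ} [Fact p.Prime] (h : Spor.IsoJ4 G)
    (hp : p = 3 ∨ p = 11) : ¬ NB p G := by
  have hcard := NotCT.Orders.j4 h
  obtain ⟨e⟩ := h
  obtain ⟨g⟩ := S1711.result
  have := S0365.result
  refine not_of_emb (e.symm.toMonoidHom.comp ((Subgroup.subtype _).comp g.symm.toMonoidHom))
    (e.symm.injective.comp ((subtype_injective _).comp g.symm.injective)) S0364.result hcard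
    (by norm_num) (by norm_num) ?_
  rcases hp with rfl | rfl <;> norm_num

end Cfsg.Agent.H468
end

-- part: H468/RowCox
section
/-!
# `NB p` fails in `Suz`, `Ly`, `O'N`, `Fi22`, `Fi23`
-/

set_option autoImplicit false

namespace Cfsg.Agent.H468

open Subgroup Cfsg

/-- an embedded simple group, isomorphic to a given one -/
theorem not_of_iso {G A S : Type*} [Group G] [Finite G] [Group A] (e : G ≃* A)
    {p : ℕ} [hp : Fact p.Prime]  [Group S] [hS : IsSimpleGroup S] {H : Subgroup A} (g : H ≃* S)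
    {n m : ℕ} (hn : Nat.card S = n) (hm : Nat.card G = m) (hnm : n < m) (hnp : ¬ n.Prime)
    (hpn : p ∣ n) : ¬ NB p G :=
  not_of_emb (e.symm.toMonoidHom.comp ((Subgroup.subtype H).comp g.symm.toMonoidHom))
    (e.symm.injective.comp ((subtype_injective _).comp g.symm.injective)) hn hm hnm hnp hpn

theorem nb_suz {G : Type*} [Group G] [Finite G] {p : ℕ} [Fact p.Prime] (h : Spor.IsoSuz G)
    (hp : p = 3 ∨ p = 5) : ¬ NB p G := by
  have hcard := NotCT.Orders.suz h
  obtain ⟨e⟩ := h
  obtain ⟨F, _, _, hF, ⟨g⟩⟩ := S1679.result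
  have h2 : ∃ a : F, a ≠ 0 ∧ a ≠ 1 := by
    by_contra hcon
    push Not at hcon
    have h3 : Fintype.card F ≤ 2 := by
      classical
      calc Fintype.card F = (Finset.univ : Finset F).card := rfl
        _ ≤ ({0, 1} : Finset F).card := Finset.card_le_card (fun x _ => by
            by_cases hx : x = 0
            · simp only [hx, _root_.Finset.mem_insert, _root_.Finset.mem_singleton, _root_.zero_ne_one, _root_.or_false]
            · simp only [hcon x hx, _root_.Finset.mem_insert, _root_.one_ne_zero, _root_.Finset.mem_singleton, _root_.or_true])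
        _ ≤ 2 := Finset.card_le_two
    omega
  have := (S1055.result h2).1
  refine not_of_iso e g (S1059.result hF) hcard (by norm_num) (by norm_num) ?_
  rcases hp with rfl | rfl <;> norm_num

theorem nb_ly {G : Type*} [Group G] [Finite G] {p : ℕ} [Fact p.Prime] (h : Spor.IsoLy G)
    (hp : p = 3 ∨ p = 5) : ¬ NB p G := by
  have hcard := NotCT.Orders.ly h
  obtain ⟨e⟩ := h
  obtain ⟨F, _, _, hF, ⟨g⟩⟩ := S1710.result
  have h2 : ∃ a : F, a ≠ 0 ∧ a ≠ 1 := by
    by_contra hcon
    push Not at hcon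
    have h3 : Fintype.card F ≤ 2 := by
      classical
      calc Fintype.card F = (Finset.univ : Finset F).card := rfl
        _ ≤ ({0, 1} : Finset F).card := Finset.card_le_card (fun x _ => by
            by_cases hx : x = 0
            · simp only [hx, _root_.Finset.mem_insert, _root_.Finset.mem_singleton, _root_.zero_ne_one, _root_.or_false]
            · simp only [hcon x hx, _root_.Finset.mem_insert, _root_.one_ne_zero, _root_.Finset.mem_singleton, _root_.or_true])
        _ ≤ 2 := Finset.card_le_two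
    omega
  have := (S1055.result h2).1
  refine not_of_iso e g (S1059.result hF) hcard (by norm_num) (by norm_num) ?_
  rcases hp with rfl | rfl <;> norm_num

theorem nb_on {G : Type*} [Group G] [Finite G] {p : ℕ} [Fact p.Prime] (h : Spor.IsoON G)
    (hp : p = 3 ∨ p = 7) : ¬ NB p G := by
  have hcard := NotCT.Orders.on h
  obtain ⟨e⟩ := h
  obtain ⟨N, -, -, ⟨g⟩⟩ := S1693.result
  have h7 : Fact (Nat.Prime 7) := ⟨by norm_num⟩
  have := S0249.result (F := ZMod 7) 3 le_rfl
  have hn : Nat.card (Matrix.ProjectiveSpecialLinearGroup (Fin 3) (ZMod 7)) = 1876896 := by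
    have h1 := S0243.result (F := ZMod 7) (q := 7) (ZMod.card 7) 3 (by norm_num)
    have h2 : Nat.gcd 3 (7 - 1) = 3 := by decide
    rw [h2, Fin.prod_univ_three] at h1
    generalize Nat.card (Matrix.ProjectiveSpecialLinearGroup (Fin 3) (ZMod 7)) = c at h1 ⊢
    norm_num at h1
    omega
  refine not_of_emb (e.symm.toMonoidHom.comp ((Subgroup.subtype _).comp
    ((Subgroup.subtype N).comp g.symm.toMonoidHom)))
    (e.symm.injective.comp ((subtype_injective _).comp ((subtype_injective _).comp g.symm.injective)))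
    hn hcard (by norm_num) (by norm_num) ?_
  rcases hp with rfl | rfl <;> norm_num

theorem nb_fi22 {G : Type*} [Group G] [Finite G] {p : ℕ} [Fact p.Prime] (h : Spor.IsoFi22 G)
    (hp : p = 3 ∨ p = 5) : ¬ NB p G := by
  have hcard := NotCT.Orders.fi22 h
  obtain ⟨e⟩ := h
  obtain ⟨g⟩ := S1686.result
  have := S0295.result (F := ZMod 3) (by rw [ZMod.card]; decide) 3 le_rfl
  refine not_of_iso e g Fischer.Y322Iso.card_POmega hcard (by norm_num) (by norm_num) ?_
  rcases hp with rfl | rfl <;> norm_num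

/-- a subgroup with a simple central quotient of order divisible by `p` and centre of order prime
to `p` -/
theorem not_of_center {G A S : Type*} [Group G] [Finite G] [Group A] (e : G ≃* A)
    {p : ℕ} [hp : Fact p.Prime] [Group S] [hS : IsSimpleGroup S] {H : Subgroup A} {k : ℕ}
    (hc : Nat.card (center H) = k) (g : H ⧸ center H ≃* S)
    {n m : ℕ} (hn : Nat.card S = n) (hm : Nat.card G = m) (hnm : k * n < m) (hnp : ¬ n.Prime)
    (hpn : p ∣ n) (hpk : ¬ p ∣ k) : ¬ NB p G := by
  have hA : Finite A := Finite.of_equiv G e.toEquiv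
  have hAm : Nat.card A = m := by rw [← hm]; exact (Nat.card_congr e.toEquiv).symm
  intro hNB
  have hcH : Nat.card H = k * n := by
    rw [← Subgroup.card_mul_index (center H), hc]
    congr 1
    rw [← hn]
    exact Nat.card_congr g.toEquiv
  refine not_of_sur (G := A) (K := H) (g.toMonoidHom.comp (QuotientGroup.mk' (center H)))
    (g.surjective.comp (QuotientGroup.mk'_surjective _)) (m := k) ?_ hn ?_ hpk hnp hpn
    (hNB.congr e)
  · intro h
    rw [h, card_top, hAm] at hcH
    omega
  · have h1 : (g.toMonoidHom.comp (QuotientGroup.mk' (center H))).ker = center H := by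
      ext x
      rw [MonoidHom.mem_ker]
      change g (QuotientGroup.mk' (center H) x) = 1 ↔ _
      rw [map_eq_one_iff g g.injective]
      exact QuotientGroup.eq_one_iff x
    rw [h1, hc]

theorem nb_fi23 {G : Type*} [Group G] [Finite G] {p : ℕ} [Fact p.Prime] (h : Spor.IsoFi23 G)
    (hp : p = 3 ∨ p = 5) : ¬ NB p G := by
  have hcard := NotCT.Orders.fi23 h
  obtain ⟨e⟩ := h
  obtain ⟨hc, ⟨g⟩, -⟩ := S1688.result
  have := S1696.result.1
  refine not_of_center e hc g (NotCT.Orders.fi22 ⟨MulEquiv.refl _⟩) hcard (by norm_num)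
    (by norm_num) ?_ ?_
  · rcases hp with rfl | rfl <;> norm_num
  · rcases hp with rfl | rfl <;> norm_num

end Cfsg.Agent.H468
end

-- part: H468/RowBig
section
/-!
# `NB p` fails in `He`, `Ru`, `HN`, `Th`, `Fi24'`, `B`, `M`
-/

set_option autoImplicit false

namespace Cfsg.Agent.H468

open Subgroup Cfsg

/-- a subgroup (given by an injection) with a simple quotient of order divisible by `p` and kernel
of order prime to `p` -/
theorem not_of_inj_sur {G H S : Type*} [Group G] [Finite G] [Group H]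
    {p : ℕ} [hp : Fact p.Prime] [Group S] [hS : IsSimpleGroup S]
    (i : H →* G) (hi : Function.Injective i) (π : H →* S) (hπ : Function.Surjective π) {k : ℕ}
    (hk : Nat.card π.ker = k)
    {n m : ℕ} (hn : Nat.card S = n) (hm : Nat.card G = m) (hnm : k * n < m) (hnp : ¬ n.Prime)
    (hpn : p ∣ n) (hpk : ¬ p ∣ k) : ¬ NB p G := by
  have hcH : Nat.card H = k * n := by
    rw [← Subgroup.card_mul_index π.ker, hk]
    congr 1
    rw [← hn, Subgroup.index_ker, MonoidHom.range_eq_top.mpr hπ, card_top]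
  let e : H ≃* i.range := MonoidHom.ofInjective hi
  refine not_of_sur (G := G) (K := i.range) (π.comp e.symm.toMonoidHom)
    (hπ.comp e.symm.surjective) (m := k) ?_ hn ?_ hpk hnp hpn
  · intro h
    rw [Nat.card_congr e.toEquiv, h, card_top, hm] at hcH
    omega
  · rw [← hk]
    have h1 : (π.comp e.symm.toMonoidHom).ker = π.ker.map e.toMonoidHom := by
      ext x
      rw [MonoidHom.mem_ker]
      constructor
      · intro hx
        exact ⟨e.symm x, hx, e.apply_symm_apply x⟩
      · rintro ⟨y, hy, rfl⟩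
        change π (e.symm (e y)) = 1
        rw [e.symm_apply_apply]
        exact hy
    rw [h1]
    exact Nat.card_congr (π.ker.equivMapOfInjective _ e.injective).symm.toEquiv

theorem nb_he {G : Type*} [Group G] [Finite G] {p : ℕ} [Fact p.Prime] (h : Spor.IsoHe G)
    (hp : p = 3 ∨ p = 5 ∨ p = 7) : ¬ NB p G := by
  have hcard := NotCT.Orders.he h
  obtain ⟨e⟩ := h
  have hf : Finite Spor.He := Finite.of_equiv G e.toEquiv
  have hcA : Nat.card Spor.He = 4030387200 := by rw [← hcard]; exact (Nat.card_congr e.toEquiv).symm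
  intro hNB
  have hNB' := hNB.congr e
  revert hNB'
  have key : p = 3 ∨ p = 7 → ¬ NB p Spor.He := by
    intro hp
    refine not_of_inv (by rintro rfl; omega) hcA KFacts.He.Classes.card_centralizer (by norm_num)
      CTwoTab.He.at_z.bal ?_
    rcases hp with rfl | rfl <;> norm_num
  rcases hp with rfl | rfl | rfl
  · exact key (Or.inl rfl)
  · obtain ⟨N, F, _, _, hN, hidx, hF, ⟨g⟩⟩ := S1682.result
    have := S0270.result (F := F) 2 le_rfl (by intro _; omega)
    have h1 := S0245.result hF 2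
    have h2 := S0246.result hF 2 (by norm_num)
    have h4 : Nat.card (Matrix.symplecticGroup (Fin 2) F) = 979200 := by
      rw [h1]
      decide
    have h5 : Nat.gcd 2 (4 - 1) = 1 := by decide
    rw [h5] at h2
    have h6 : Nat.card (PSp 2 F) = 979200 := by
      have h3 := Subgroup.card_mul_index (center ↥(Matrix.symplecticGroup (Fin 2) F))
      rw [h2, h4, one_mul] at h3
      exact h3
    exact not_of_inj_sur ((Subgroup.subtype _).comp ((Subgroup.subtype N).comp g.symm.toMonoidHom))
      ((subtype_injective _).comp ((subtype_injective _).comp g.symm.injective))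
      (QuotientGroup.mk' (center ↥(Matrix.symplecticGroup (Fin 2) F)))
      (QuotientGroup.mk'_surjective _) (k := 1) (by rw [QuotientGroup.ker_mk']; exact h2) h6 hcA
      (by norm_num) (by norm_num) (by norm_num) (by norm_num)
  · exact key (Or.inr rfl)

theorem nb_ru {G : Type*} [Group G] [Finite G] {p : ℕ} [Fact p.Prime] (h : Spor.IsoRu G)
    (hp : p = 3 ∨ p = 5) : ¬ NB p G := by
  have hcard := NotCT.Orders.ru h
  obtain ⟨C, -, -⟩ := CTwoTab.Ru.exists_core_sz h
  refine not_of_inv (by rintro rfl; omega) (t := C.z 1) hcard (Ru127.Sg.card_cent C) (by norm_num)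
    (CTwoTab.Ru.at_z C).bal ?_
  rcases hp with rfl | rfl <;> norm_num

theorem nb_hn {G : Type*} [Group G] [Finite G] {p : ℕ} [Fact p.Prime] (h : Spor.IsoHN G)
    (hp : p = 3 ∨ p = 5) : ¬ NB p G := by
  have hcard := NotCT.Orders.hn h
  obtain ⟨e⟩ := h
  have := HN.XWords.simple_HN
  obtain ⟨K, ⟨g⟩⟩ := HN.A12Group.exists_alternating
  have hs : IsSimpleGroup (alternatingGroup (Fin 12)) :=
    alternatingGroup.isSimpleGroup (by simp)
  refine not_of_iso e g (n := 239500800) ?_ hcard (by norm_num) (by norm_num) ?_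
  · rw [nat_card_alternatingGroup, Nat.card_eq_fintype_card, Fintype.card_fin]
    decide
  · rcases hp with rfl | rfl <;> norm_num

theorem nb_th {G : Type*} [Group G] [Finite G] {p : ℕ} [Fact p.Prime] (h : Spor.IsoTh G)
    (hp : p = 3 ∨ p = 5 ∨ p = 7) : ¬ NB p G := by
  have hcard := NotCT.Orders.th h
  obtain ⟨e⟩ := h
  have hf : Finite Spor.Th := Finite.of_equiv G e.toEquiv
  have hcA : Nat.card Spor.Th = 90745943887872000 := by
    rw [← hcard]; exact (Nat.card_congr e.toEquiv).symm
  intro hNB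
  have hNB' := hNB.congr e
  revert hNB'
  obtain ⟨Q, hQn, hQ, -, hcQ, -⟩ := MonsterX.ThOneClass.struct
  have hC := MonsterX.ThOneClass.card_a
  refine not_of_cent (p := p) (r := 2) (by rintro rfl; omega) Nat.prime_two
    (K := centralizer ({Th.IndexUpper.gTh 1} : Set Spor.Th)) (R := Q.map (Subgroup.subtype _)) ?_ ?_
    (map_subtype_le _) ?_ ?_ ?_
  · intro h
    rw [h, card_top, hcA] at hC
    omega
  · rw [hC]
    rcases hp with rfl | rfl | rfl <;> norm_num
  · rintro k hk _ ⟨t, ht, rfl⟩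
    exact ⟨_, hQn.conj_mem t ht ⟨k, hk⟩, rfl⟩
  · exact (IsPGroup.of_card hQ).map _
  · intro c hc hcc
    refine ⟨⟨c, hc⟩, hcQ ?_, rfl⟩
    rw [mem_centralizer_iff]
    intro q hq
    apply Subtype.ext
    exact (hcc q ⟨q, hq, rfl⟩).symm

theorem nb_b {G : Type*} [Group G] [Finite G] {p : ℕ} [Fact p.Prime] (h : Spor.IsoB G)
    (hp : p = 3 ∨ p = 5 ∨ p = 7) : ¬ NB p G := by
  have hcard := NotCT.Orders.b h
  obtain ⟨e⟩ := h
  have f := e.trans BM.KHAll.iso
  have hcA : Nat.card BabyM.Inst.M.G = 4154781481226426191177580544000000 := by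
    rw [← hcard]; exact (Nat.card_congr f.toEquiv).symm
  have hfin := Finite.of_equiv G f.toEquiv
  intro hNB
  have hNB' := hNB.congr f
  revert hNB'
  have hL := KFacts.Baby.Inst.large BabyU.ClosLane.A
  have hc : Nat.card (centralizer ({BabyU.ClosModel.zz BabyU.ClosLane.A} : Set BabyM.Inst.M.G)) =
      2 ^ 23 * 42305421312000 := by
    rw [Nat.card_congr (KFacts.Baby.Inst.eC BabyU.ClosLane.A).toEquiv,
      BabyU.ClosLane.A.grp.card_C]
  refine not_of_inv (by rintro rfl; omega) hcA hc (by norm_num) (CTwoTab.MonsterOf.at_large hL).bal ?_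
  rcases hp with rfl | rfl | rfl <;> norm_num

theorem nb_fi24 {G : Type*} [Group G] [Finite G] {p : ℕ} [Fact p.Prime] (h : Spor.IsoFi24' G)
    (hp : p = 3 ∨ p = 5 ∨ p = 7) : ¬ NB p G := by
  have hcard := NotCT.Orders.fi24 h
  obtain ⟨e⟩ := h
  have T := KFacts.FiTF.Tet.isTet (t := 0) (by norm_num)
  obtain ⟨P⟩ := R08.TetFi24A.exists_at T.ha T.hb T.nab T.ab
  have := S1696.result.1
  have hc := OddHalf.D4.Spor.FiTF.card_Cab P
  have hfi : Nat.card Spor.Fi22 = 64561751654400 := S1696.result.2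
  have hk : Nat.card P.π.ker = 2 := by
    have h1 := Subgroup.card_mul_index P.π.ker
    rw [hc, Subgroup.index_ker, MonoidHom.range_eq_top.mpr P.lift.ext.surj, card_top, hfi] at h1
    omega
  refine not_of_inj_sur (e.symm.toMonoidHom.comp
    (inclusion CTwoTab.FiTF.Cab_le)) (e.symm.injective.comp (inclusion_injective _))
    P.π P.lift.ext.surj hk hfi hcard (by norm_num) (by norm_num) ?_ ?_
  · rcases hp with rfl | rfl | rfl <;> norm_num
  · rcases hp with rfl | rfl | rfl <;> norm_num

theorem nb_m {G : Type*} [Group G] [Finite G] {p : ℕ} [Fact p.Prime] (h : Spor.IsoM G)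
    (hp : p = 3 ∨ p = 5 ∨ p = 7 ∨ p = 11 ∨ p = 13) : ¬ NB p G := by
  have hcard := NotCT.Orders.m h
  obtain ⟨e⟩ := h
  obtain ⟨f⟩ := MonsterP.Equiv.equiv
  have hc := CTwoTab.MonsterOf.cover_t MonsterU.Uncond.all
    (MonsterP.NodesGrp.prel MonsterU.NodesU.hyp)
    (MonsterP.NodesNe.ne MonsterU.NodesU.hyp) MonsterU.NodesU.conj_ten S1704.result
  have := S1704.result.1
  obtain ⟨h1, ⟨g⟩, -⟩ := hc
  refine not_of_center (e.trans f) h1 g (NotCT.Orders.b ⟨MulEquiv.refl _⟩) hcard (by norm_num)
    (by norm_num) ?_ ?_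
  · rcases hp with rfl | rfl | rfl | rfl | rfl <;> norm_num
  · rcases hp with rfl | rfl | rfl | rfl | rfl <;> norm_num

end Cfsg.Agent.H468
end

-- part: H468/RowSpor
section
/-!
# The sporadic groups and the Tits group: `NB p G`, `p` odd, implies that the Sylow `p`-subgroups
are cyclic
-/

set_option autoImplicit false

namespace Cfsg.Agent.H468

open Subgroup Cfsg

variable {G : Type*} [Group G] [Finite G] {p : ℕ} [hp : Fact p.Prime]

/-- the common shape of a row -/
theorem row {n : ℕ} (hcard : Nat.card G = n) (l : List (ℕ × ℕ)) (hl : ∀ x ∈ l, x.1.Prime)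
    (hnd : (l.map Prod.fst).Nodup) (hn : n = (l.map fun x => x.1 ^ x.2).prod) (P : Sylow p G)
    (h : ∀ x ∈ l, x.1 = p → 2 ≤ x.2 → False) : IsCyclic (P : Subgroup G) := by
  rcases cyc_or hcard l hl hnd hn P with h1 | ⟨x, hx, h1, h2⟩
  · exact h1
  · exact absurd (h x hx h1 h2) not_false

theorem tits (h2 : p ≠ 2) (hNB : NB p G) (h : Lie.IsoTits G) (P : Sylow p G) :
    IsCyclic (P : Subgroup G) := by
  refine row (NotCT.Orders.tits h) [(2, 11), (3, 3), (5, 2), (13, 1)] (by simp; norm_num)
    (by decide) (by norm_num) P ?_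
  intro x hx h3 h4
  simp only [List.mem_cons, List.not_mem_nil, or_false] at hx
  rcases hx with rfl | rfl | rfl | rfl <;> subst h3 <;> try omega
  · exact nb_tits h (Or.inl rfl) hNB
  · exact nb_tits h (Or.inr rfl) hNB

theorem spor_m11 (h2 : p ≠ 2) (hNB : NB p G) (h : Spor.IsoM11 G) (P : Sylow p G) :
    IsCyclic (P : Subgroup G) := by
  refine row (NotCT.Orders.m11 h)
    [(2, 4), (3, 2), (5, 1), (11, 1)]
    (by simp; norm_num) (by decide) (by norm_num) P ?_
  intro x hx h3 h4
  simp only [List.mem_cons, List.not_mem_nil, or_false] at hx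
  rcases hx with rfl | rfl | rfl | rfl <;> subst h3 <;> try omega
  exact nb_m11 h hNB

theorem spor_m12 (h2 : p ≠ 2) (hNB : NB p G) (h : Spor.IsoM12 G) (P : Sylow p G) :
    IsCyclic (P : Subgroup G) := by
  refine row (NotCT.Orders.m12 h)
    [(2, 6), (3, 3), (5, 1), (11, 1)]
    (by simp; norm_num) (by decide) (by norm_num) P ?_
  intro x hx h3 h4
  simp only [List.mem_cons, List.not_mem_nil, or_false] at hx
  rcases hx with rfl | rfl | rfl | rfl <;> subst h3 <;> try omega
  exact nb_m12 h hNB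

theorem spor_m22 (h2 : p ≠ 2) (hNB : NB p G) (h : Spor.IsoM22 G) (P : Sylow p G) :
    IsCyclic (P : Subgroup G) := by
  refine row (NotCT.Orders.m22 h)
    [(2, 7), (3, 2), (5, 1), (7, 1), (11, 1)]
    (by simp only [_root_.List.mem_cons, _root_.List.not_mem_nil, _root_.or_false, _root_.forall_eq_or_imp, _root_.forall_eq]; norm_num) (by decide) (by norm_num) P ?_
  intro x hx h3 h4
  simp only [List.mem_cons, List.not_mem_nil, or_false] at hx
  rcases hx with rfl | rfl | rfl | rfl | rfl <;> subst h3 <;> try omega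
  exact nb_m22 h hNB

theorem spor_m23 (h2 : p ≠ 2) (hNB : NB p G) (h : Spor.IsoM23 G) (P : Sylow p G) :
    IsCyclic (P : Subgroup G) := by
  refine row (NotCT.Orders.m23 h)
    [(2, 7), (3, 2), (5, 1), (7, 1), (11, 1), (23, 1)]
    (by simp only [_root_.List.mem_cons, _root_.List.not_mem_nil, _root_.or_false, _root_.forall_eq_or_imp, _root_.forall_eq]; norm_num) (by decide) (by norm_num) P ?_
  intro x hx h3 h4
  simp only [List.mem_cons, List.not_mem_nil, or_false] at hx
  rcases hx with rfl | rfl | rfl | rfl | rfl | rfl <;> subst h3 <;> try omega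
  exact nb_m23 h hNB

theorem spor_m24 (h2 : p ≠ 2) (hNB : NB p G) (h : Spor.IsoM24 G) (P : Sylow p G) :
    IsCyclic (P : Subgroup G) := by
  refine row (NotCT.Orders.m24 h)
    [(2, 10), (3, 3), (5, 1), (7, 1), (11, 1), (23, 1)]
    (by simp only [_root_.List.mem_cons, _root_.List.not_mem_nil, _root_.or_false, _root_.forall_eq_or_imp, _root_.forall_eq]; norm_num) (by decide) (by norm_num) P ?_
  intro x hx h3 h4
  simp only [List.mem_cons, List.not_mem_nil, or_false] at hx
  rcases hx with rfl | rfl | rfl | rfl | rfl | rfl <;> subst h3 <;> try omega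
  exact nb_m24 h hNB

theorem spor_j1 (h2 : p ≠ 2) (hNB : NB p G) (h : Spor.IsoJ1 G) (P : Sylow p G) :
    IsCyclic (P : Subgroup G) := by
  refine row (NotCT.Orders.j1 h)
    [(2, 3), (3, 1), (5, 1), (7, 1), (11, 1), (19, 1)]
    (by simp only [_root_.List.mem_cons, _root_.List.not_mem_nil, _root_.or_false, _root_.forall_eq_or_imp, _root_.forall_eq]; norm_num) (by decide) (by norm_num) P ?_
  intro x hx h3 h4
  simp only [List.mem_cons, List.not_mem_nil, or_false] at hx
  rcases hx with rfl | rfl | rfl | rfl | rfl | rfl <;> subst h3 <;> try omega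

theorem spor_j2 (h2 : p ≠ 2) (hNB : NB p G) (h : Spor.IsoJ2 G) (P : Sylow p G) :
    IsCyclic (P : Subgroup G) := by
  refine row (NotCT.Orders.j2 h)
    [(2, 7), (3, 3), (5, 2), (7, 1)]
    (by simp; norm_num) (by decide) (by norm_num) P ?_
  intro x hx h3 h4
  simp only [List.mem_cons, List.not_mem_nil, or_false] at hx
  rcases hx with rfl | rfl | rfl | rfl <;> subst h3 <;> try omega
  · exact nb_j2 h (Or.inl rfl) hNB
  · exact nb_j2 h (Or.inr rfl) hNB

theorem spor_j3 (h2 : p ≠ 2) (hNB : NB p G) (h : Spor.IsoJ3 G) (P : Sylow p G) :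
    IsCyclic (P : Subgroup G) := by
  refine row (NotCT.Orders.j3 h)
    [(2, 7), (3, 5), (5, 1), (17, 1), (19, 1)]
    (by simp only [_root_.List.mem_cons, _root_.List.not_mem_nil, _root_.or_false, _root_.forall_eq_or_imp, _root_.forall_eq]; norm_num) (by decide) (by norm_num) P ?_
  intro x hx h3 h4
  simp only [List.mem_cons, List.not_mem_nil, or_false] at hx
  rcases hx with rfl | rfl | rfl | rfl | rfl <;> subst h3 <;> try omega
  exact nb_j3 h rfl hNB

theorem spor_j4 (h2 : p ≠ 2) (hNB : NB p G) (h : Spor.IsoJ4 G) (P : Sylow p G) :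
    IsCyclic (P : Subgroup G) := by
  refine row (NotCT.Orders.j4 h)
    [(2, 21), (3, 3), (5, 1), (7, 1), (11, 3), (23, 1), (29, 1), (31, 1), (37, 1), (43, 1)]
    (by simp only [_root_.List.mem_cons, _root_.List.not_mem_nil, _root_.or_false, _root_.forall_eq_or_imp, _root_.forall_eq]; norm_num) (by decide) (by norm_num) P ?_
  intro x hx h3 h4
  simp only [List.mem_cons, List.not_mem_nil, or_false] at hx
  rcases hx with rfl | rfl | rfl | rfl | rfl | rfl | rfl | rfl | rfl | rfl <;> subst h3 <;> try omega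
  · exact nb_j4 h (Or.inl rfl) hNB
  · exact nb_j4 h (Or.inr rfl) hNB

theorem spor_hs (h2 : p ≠ 2) (hNB : NB p G) (h : Spor.IsoHS G) (P : Sylow p G) :
    IsCyclic (P : Subgroup G) := by
  refine row (NotCT.Orders.hs h)
    [(2, 9), (3, 2), (5, 3), (7, 1), (11, 1)]
    (by simp only [_root_.List.mem_cons, _root_.List.not_mem_nil, _root_.or_false, _root_.forall_eq_or_imp, _root_.forall_eq]; norm_num) (by decide) (by norm_num) P ?_
  intro x hx h3 h4
  simp only [List.mem_cons, List.not_mem_nil, or_false] at hx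
  rcases hx with rfl | rfl | rfl | rfl | rfl <;> subst h3 <;> try omega
  · exact nb_hs h (Or.inl rfl) hNB
  · exact nb_hs h (Or.inr rfl) hNB

theorem spor_he (h2 : p ≠ 2) (hNB : NB p G) (h : Spor.IsoHe G) (P : Sylow p G) :
    IsCyclic (P : Subgroup G) := by
  refine row (NotCT.Orders.he h)
    [(2, 10), (3, 3), (5, 2), (7, 3), (17, 1)]
    (by simp only [_root_.List.mem_cons, _root_.List.not_mem_nil, _root_.or_false, _root_.forall_eq_or_imp, _root_.forall_eq]; norm_num) (by decide) (by norm_num) P ?_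
  intro x hx h3 h4
  simp only [List.mem_cons, List.not_mem_nil, or_false] at hx
  rcases hx with rfl | rfl | rfl | rfl | rfl <;> subst h3 <;> try omega
  · exact nb_he h (Or.inl rfl) hNB
  · exact nb_he h (Or.inr (Or.inl rfl)) hNB
  · exact nb_he h (Or.inr (Or.inr rfl)) hNB

theorem spor_mcl (h2 : p ≠ 2) (hNB : NB p G) (h : Spor.IsoMcL G) (P : Sylow p G) :
    IsCyclic (P : Subgroup G) := by
  refine row (NotCT.Orders.mcl h)
    [(2, 7), (3, 6), (5, 3), (7, 1), (11, 1)]
    (by simp only [_root_.List.mem_cons, _root_.List.not_mem_nil, _root_.or_false, _root_.forall_eq_or_imp, _root_.forall_eq]; norm_num) (by decide) (by norm_num) P ?_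
  intro x hx h3 h4
  simp only [List.mem_cons, List.not_mem_nil, or_false] at hx
  rcases hx with rfl | rfl | rfl | rfl | rfl <;> subst h3 <;> try omega
  · exact nb_mcl h (Or.inl rfl) hNB
  · exact nb_mcl h (Or.inr rfl) hNB

theorem spor_suz (h2 : p ≠ 2) (hNB : NB p G) (h : Spor.IsoSuz G) (P : Sylow p G) :
    IsCyclic (P : Subgroup G) := by
  refine row (NotCT.Orders.suz h)
    [(2, 13), (3, 7), (5, 2), (7, 1), (11, 1), (13, 1)]
    (by simp only [_root_.List.mem_cons, _root_.List.not_mem_nil, _root_.or_false, _root_.forall_eq_or_imp, _root_.forall_eq]; norm_num) (by decide) (by norm_num) P ?_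
  intro x hx h3 h4
  simp only [List.mem_cons, List.not_mem_nil, or_false] at hx
  rcases hx with rfl | rfl | rfl | rfl | rfl | rfl <;> subst h3 <;> try omega
  · exact nb_suz h (Or.inl rfl) hNB
  · exact nb_suz h (Or.inr rfl) hNB

theorem spor_ly (h2 : p ≠ 2) (hNB : NB p G) (h : Spor.IsoLy G) (P : Sylow p G) :
    IsCyclic (P : Subgroup G) := by
  refine row (NotCT.Orders.ly h)
    [(2, 8), (3, 7), (5, 6), (7, 1), (11, 1), (31, 1), (37, 1), (67, 1)]
    (by simp only [_root_.List.mem_cons, _root_.List.not_mem_nil, _root_.or_false, _root_.forall_eq_or_imp, _root_.forall_eq]; norm_num) (by decide) (by norm_num) P ?_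
  intro x hx h3 h4
  simp only [List.mem_cons, List.not_mem_nil, or_false] at hx
  rcases hx with rfl | rfl | rfl | rfl | rfl | rfl | rfl | rfl <;> subst h3 <;> try omega
  · exact nb_ly h (Or.inl rfl) hNB
  · exact nb_ly h (Or.inr rfl) hNB

theorem spor_on (h2 : p ≠ 2) (hNB : NB p G) (h : Spor.IsoON G) (P : Sylow p G) :
    IsCyclic (P : Subgroup G) := by
  refine row (NotCT.Orders.on h)
    [(2, 9), (3, 4), (5, 1), (7, 3), (11, 1), (19, 1), (31, 1)]
    (by simp only [_root_.List.mem_cons, _root_.List.not_mem_nil, _root_.or_false, _root_.forall_eq_or_imp, _root_.forall_eq]; norm_num) (by decide) (by norm_num) P ?_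
  intro x hx h3 h4
  simp only [List.mem_cons, List.not_mem_nil, or_false] at hx
  rcases hx with rfl | rfl | rfl | rfl | rfl | rfl | rfl <;> subst h3 <;> try omega
  · exact nb_on h (Or.inl rfl) hNB
  · exact nb_on h (Or.inr rfl) hNB

theorem spor_ru (h2 : p ≠ 2) (hNB : NB p G) (h : Spor.IsoRu G) (P : Sylow p G) :
    IsCyclic (P : Subgroup G) := by
  refine row (NotCT.Orders.ru h)
    [(2, 14), (3, 3), (5, 3), (7, 1), (13, 1), (29, 1)]
    (by simp only [_root_.List.mem_cons, _root_.List.not_mem_nil, _root_.or_false, _root_.forall_eq_or_imp, _root_.forall_eq]; norm_num) (by decide) (by norm_num) P ?_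
  intro x hx h3 h4
  simp only [List.mem_cons, List.not_mem_nil, or_false] at hx
  rcases hx with rfl | rfl | rfl | rfl | rfl | rfl <;> subst h3 <;> try omega
  · exact nb_ru h (Or.inl rfl) hNB
  · exact nb_ru h (Or.inr rfl) hNB

theorem spor_co1 (h2 : p ≠ 2) (hNB : NB p G) (h : Spor.IsoCo1 G) (P : Sylow p G) :
    IsCyclic (P : Subgroup G) := by
  refine row (NotCT.Orders.co1 h)
    [(2, 21), (3, 9), (5, 4), (7, 2), (11, 1), (13, 1), (23, 1)]
    (by simp only [_root_.List.mem_cons, _root_.List.not_mem_nil, _root_.or_false, _root_.forall_eq_or_imp, _root_.forall_eq]; norm_num) (by decide) (by norm_num) P ?_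
  intro x hx h3 h4
  simp only [List.mem_cons, List.not_mem_nil, or_false] at hx
  rcases hx with rfl | rfl | rfl | rfl | rfl | rfl | rfl <;> subst h3 <;> try omega
  · exact nb_co1 h (Or.inl rfl) hNB
  · exact nb_co1 h (Or.inr (Or.inl rfl)) hNB
  · exact nb_co1 h (Or.inr (Or.inr rfl)) hNB

theorem spor_co2 (h2 : p ≠ 2) (hNB : NB p G) (h : Spor.IsoCo2 G) (P : Sylow p G) :
    IsCyclic (P : Subgroup G) := by
  refine row (NotCT.Orders.co2 h)
    [(2, 18), (3, 6), (5, 3), (7, 1), (11, 1), (23, 1)]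
    (by simp only [_root_.List.mem_cons, _root_.List.not_mem_nil, _root_.or_false, _root_.forall_eq_or_imp, _root_.forall_eq]; norm_num) (by decide) (by norm_num) P ?_
  intro x hx h3 h4
  simp only [List.mem_cons, List.not_mem_nil, or_false] at hx
  rcases hx with rfl | rfl | rfl | rfl | rfl | rfl <;> subst h3 <;> try omega
  · exact nb_co2 h (Or.inl rfl) hNB
  · exact nb_co2 h (Or.inr rfl) hNB

theorem spor_co3 (h2 : p ≠ 2) (hNB : NB p G) (h : Spor.IsoCo3 G) (P : Sylow p G) :
    IsCyclic (P : Subgroup G) := by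
  refine row (NotCT.Orders.co3 h)
    [(2, 10), (3, 7), (5, 3), (7, 1), (11, 1), (23, 1)]
    (by simp only [_root_.List.mem_cons, _root_.List.not_mem_nil, _root_.or_false, _root_.forall_eq_or_imp, _root_.forall_eq]; norm_num) (by decide) (by norm_num) P ?_
  intro x hx h3 h4
  simp only [List.mem_cons, List.not_mem_nil, or_false] at hx
  rcases hx with rfl | rfl | rfl | rfl | rfl | rfl <;> subst h3 <;> try omega
  · exact nb_co3 h (Or.inl rfl) hNB
  · exact nb_co3 h (Or.inr rfl) hNB

theorem spor_fi22 (h2 : p ≠ 2) (hNB : NB p G) (h : Spor.IsoFi22 G) (P : Sylow p G) :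
    IsCyclic (P : Subgroup G) := by
  refine row (NotCT.Orders.fi22 h)
    [(2, 17), (3, 9), (5, 2), (7, 1), (11, 1), (13, 1)]
    (by simp only [_root_.List.mem_cons, _root_.List.not_mem_nil, _root_.or_false, _root_.forall_eq_or_imp, _root_.forall_eq]; norm_num) (by decide) (by norm_num) P ?_
  intro x hx h3 h4
  simp only [List.mem_cons, List.not_mem_nil, or_false] at hx
  rcases hx with rfl | rfl | rfl | rfl | rfl | rfl <;> subst h3 <;> try omega
  · exact nb_fi22 h (Or.inl rfl) hNB
  · exact nb_fi22 h (Or.inr rfl) hNB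

theorem spor_fi23 (h2 : p ≠ 2) (hNB : NB p G) (h : Spor.IsoFi23 G) (P : Sylow p G) :
    IsCyclic (P : Subgroup G) := by
  refine row (NotCT.Orders.fi23 h)
    [(2, 18), (3, 13), (5, 2), (7, 1), (11, 1), (13, 1), (17, 1), (23, 1)]
    (by simp only [_root_.List.mem_cons, _root_.List.not_mem_nil, _root_.or_false, _root_.forall_eq_or_imp, _root_.forall_eq]; norm_num) (by decide) (by norm_num) P ?_
  intro x hx h3 h4
  simp only [List.mem_cons, List.not_mem_nil, or_false] at hx
  rcases hx with rfl | rfl | rfl | rfl | rfl | rfl | rfl | rfl <;> subst h3 <;> try omega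
  · exact nb_fi23 h (Or.inl rfl) hNB
  · exact nb_fi23 h (Or.inr rfl) hNB

theorem spor_fi24 (h2 : p ≠ 2) (hNB : NB p G) (h : Spor.IsoFi24' G) (P : Sylow p G) :
    IsCyclic (P : Subgroup G) := by
  refine row (NotCT.Orders.fi24 h)
    [(2, 21), (3, 16), (5, 2), (7, 3), (11, 1), (13, 1), (17, 1), (23, 1), (29, 1)]
    (by simp only [_root_.List.mem_cons, _root_.List.not_mem_nil, _root_.or_false, _root_.forall_eq_or_imp, _root_.forall_eq]; norm_num) (by decide) (by norm_num) P ?_
  intro x hx h3 h4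
  simp only [List.mem_cons, List.not_mem_nil, or_false] at hx
  rcases hx with rfl | rfl | rfl | rfl | rfl | rfl | rfl | rfl | rfl <;> subst h3 <;> try omega
  · exact nb_fi24 h (Or.inl rfl) hNB
  · exact nb_fi24 h (Or.inr (Or.inl rfl)) hNB
  · exact nb_fi24 h (Or.inr (Or.inr rfl)) hNB

theorem spor_th (h2 : p ≠ 2) (hNB : NB p G) (h : Spor.IsoTh G) (P : Sylow p G) :
    IsCyclic (P : Subgroup G) := by
  refine row (NotCT.Orders.th h)
    [(2, 15), (3, 10), (5, 3), (7, 2), (13, 1), (19, 1), (31, 1)]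
    (by simp only [_root_.List.mem_cons, _root_.List.not_mem_nil, _root_.or_false, _root_.forall_eq_or_imp, _root_.forall_eq]; norm_num) (by decide) (by norm_num) P ?_
  intro x hx h3 h4
  simp only [List.mem_cons, List.not_mem_nil, or_false] at hx
  rcases hx with rfl | rfl | rfl | rfl | rfl | rfl | rfl <;> subst h3 <;> try omega
  · exact nb_th h (Or.inl rfl) hNB
  · exact nb_th h (Or.inr (Or.inl rfl)) hNB
  · exact nb_th h (Or.inr (Or.inr rfl)) hNB

theorem spor_hn (h2 : p ≠ 2) (hNB : NB p G) (h : Spor.IsoHN G) (P : Sylow p G) :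
    IsCyclic (P : Subgroup G) := by
  refine row (NotCT.Orders.hn h)
    [(2, 14), (3, 6), (5, 6), (7, 1), (11, 1), (19, 1)]
    (by simp only [_root_.List.mem_cons, _root_.List.not_mem_nil, _root_.or_false, _root_.forall_eq_or_imp, _root_.forall_eq]; norm_num) (by decide) (by norm_num) P ?_
  intro x hx h3 h4
  simp only [List.mem_cons, List.not_mem_nil, or_false] at hx
  rcases hx with rfl | rfl | rfl | rfl | rfl | rfl <;> subst h3 <;> try omega
  · exact nb_hn h (Or.inl rfl) hNB
  · exact nb_hn h (Or.inr rfl) hNB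

theorem spor_b (h2 : p ≠ 2) (hNB : NB p G) (h : Spor.IsoB G) (P : Sylow p G) :
    IsCyclic (P : Subgroup G) := by
  refine row (NotCT.Orders.b h)
    [(2, 41), (3, 13), (5, 6), (7, 2), (11, 1), (13, 1), (17, 1), (19, 1), (23, 1), (31, 1), (47, 1)]
    (by simp only [_root_.List.mem_cons, _root_.List.not_mem_nil, _root_.or_false, _root_.forall_eq_or_imp, _root_.forall_eq]; norm_num) (by decide) (by norm_num) P ?_
  intro x hx h3 h4
  simp only [List.mem_cons, List.not_mem_nil, or_false] at hx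
  rcases hx with rfl | rfl | rfl | rfl | rfl | rfl | rfl | rfl | rfl | rfl | rfl <;> subst h3 <;> try omega
  · exact nb_b h (Or.inl rfl) hNB
  · exact nb_b h (Or.inr (Or.inl rfl)) hNB
  · exact nb_b h (Or.inr (Or.inr rfl)) hNB

theorem spor_m (h2 : p ≠ 2) (hNB : NB p G) (h : Spor.IsoM G) (P : Sylow p G) :
    IsCyclic (P : Subgroup G) := by
  refine row (NotCT.Orders.m h)
    [(2, 46), (3, 20), (5, 9), (7, 6), (11, 2), (13, 3), (17, 1), (19, 1), (23, 1), (29, 1), (31, 1), (41, 1), (47, 1), (59, 1), (71, 1)]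
    (by simp only [_root_.List.mem_cons, _root_.List.not_mem_nil, _root_.or_false, _root_.forall_eq_or_imp, _root_.forall_eq]; norm_num) (by decide) (by norm_num) P ?_
  intro x hx h3 h4
  simp only [List.mem_cons, List.not_mem_nil, or_false] at hx
  rcases hx with rfl | rfl | rfl | rfl | rfl | rfl | rfl | rfl | rfl | rfl | rfl | rfl | rfl | rfl | rfl <;> subst h3 <;> try omega
  · exact nb_m h (Or.inl rfl) hNB
  · exact nb_m h (Or.inr (Or.inl rfl)) hNB
  · exact nb_m h (Or.inr (Or.inr (Or.inl rfl))) hNB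
  · exact nb_m h (Or.inr (Or.inr (Or.inr (Or.inl rfl)))) hNB
  · exact nb_m h (Or.inr (Or.inr (Or.inr (Or.inr rfl)))) hNB

/-- **The sporadic groups.** -/
theorem spor (h2 : p ≠ 2) (hNB : NB p G) (h : IsSporadicGroup G) (P : Sylow p G) :
    IsCyclic (P : Subgroup G) := by
  rcases h with h | h | h | h | h | h | h | h | h | h | h | h | h | h | h | h | h | h | h | h | h | h | h | h | h | h
  · exact spor_m11 h2 hNB h P
  · exact spor_m12 h2 hNB h P
  · exact spor_m22 h2 hNB h P
  · exact spor_m23 h2 hNB h P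
  · exact spor_m24 h2 hNB h P
  · exact spor_j1 h2 hNB h P
  · exact spor_j2 h2 hNB h P
  · exact spor_j3 h2 hNB h P
  · exact spor_j4 h2 hNB h P
  · exact spor_co1 h2 hNB h P
  · exact spor_co2 h2 hNB h P
  · exact spor_co3 h2 hNB h P
  · exact spor_mcl h2 hNB h P
  · exact spor_hs h2 hNB h P
  · exact spor_suz h2 hNB h P
  · exact spor_he h2 hNB h P
  · exact spor_ru h2 hNB h P
  · exact spor_on h2 hNB h P
  · exact spor_ly h2 hNB h P
  · exact spor_fi22 h2 hNB h P
  · exact spor_fi23 h2 hNB h P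
  · exact spor_fi24 h2 hNB h P
  · exact spor_hn h2 hNB h P
  · exact spor_th h2 hNB h P
  · exact spor_b h2 hNB h P
  · exact spor_m h2 hNB h P

end Cfsg.Agent.H468
end

-- part: H469/Main
section
/-!
# `NB p G`, `G` a known simple group, `p` odd : the Sylow `p`-subgroups are cyclic

* `isCyclic_of_known` : the theorem;
* `two_of_omega` : the case `p = 2`.
-/

set_option autoImplicit false

namespace Cfsg.Agent.H469

open Subgroup Cfsg

theorem exists_charP (F : Type) [Field F] [Fintype F] : ∃ r : ℕ, Fact r.Prime ∧ CharP F r := by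
  obtain ⟨r, hr⟩ := CharP.exists F
  exact ⟨r, ⟨CharP.char_is_prime F r⟩, hr⟩

theorem NB.toH468 {p : ℕ} {G : Type*} [Group G] (h : NB p G) : H468.NB p G := by
  intro K hK x hx hxp
  obtain ⟨R, hRK, hKR, hR, hxR⟩ := h K hK x hx hxp
  exact ⟨R, hRK, fun k hk t ht => (mem_normalizer_iff.1 (hKR hk) t).1 ht, hR, hxR⟩

theorem NB.ofH468 {p : ℕ} {G : Type*} [Group G] (h : H468.NB p G) : NB p G := by
  intro K hK x hx hxp
  obtain ⟨R, hRK, hKR, hR, hxR⟩ := h K hK x hx hxp
  refine ⟨R, hRK, fun k hk => ?_, hR, hxR⟩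
  rw [mem_normalizer_iff]
  intro g
  refine ⟨fun hg => hKR k hk g hg, fun hg => ?_⟩
  have h1 := hKR k⁻¹ (K.inv_mem hk) _ hg
  have h2 : k⁻¹ * (k * g * k⁻¹) * k⁻¹⁻¹ = g := by group
  rwa [h2] at h1

/-- **The main theorem.** -/
theorem isCyclic_of_known {G : Type*} [Group G] [Finite G] [IsSimpleGroup G] (hna : ∃ a b : G, a * b ≠ b * a)
    (hG : IsKnownSimple' G) {p : ℕ} [hp : Fact p.Prime] (hp2 : p ≠ 2) (h : NB p G) (P : Sylow p G) :
    IsCyclic (P : Subgroup G) := by
  rcases hG with hG | hG | hG | hG | hG | hG | hG | hG | hG | hG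
  · exfalso
    have hc : Nat.card G = Nat.card G := rfl
    obtain ⟨a, b, hab⟩ := hna
    have : IsCyclic G := by
      have h1 : (Nat.card G).Prime := hG
      have : Fact (Nat.card G).Prime := ⟨h1⟩
      exact isCyclic_of_prime_card (p := Nat.card G) rfl
    obtain ⟨g, hg⟩ := this.exists_generator
    obtain ⟨i, rfl⟩ := hg a
    obtain ⟨j, rfl⟩ := hg b
    exact hab (((Commute.refl g).zpow_zpow i j).eq)
  · exact row_alt hp2 h hG P
  · exact RowClass.row_psl hna hp2 h hG P
  · exact RowClass.row_psp hna hp2 h hG P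
  · exact RowClass.row_psu hna hp2 h hG P
  · exact RowClass.row_omega_odd hna hp2 h hG P
  · exact RowClass.row_omega_plus hna hp2 h hG P
  · exact RowClass.row_omega_minus hna hp2 h hG P
  · rcases hG with hG | hG | hG | hG | hG | hG | hG | hG | hG | hG | hG
    · obtain ⟨F, hF1, hF2, hF3, he⟩ := hG
      obtain ⟨r, hr, hrF⟩ := exists_charP F
      exact RowExc.row_chev hna hp2 h (r := r) ⟨F, hF1, hF2, hrF, Or.inl ⟨hF3, he⟩⟩ P
    · obtain ⟨F, hF1, hF2, he⟩ := hG
      obtain ⟨r, hr, hrF⟩ := exists_charP F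
      exact RowExc.row_chev hna hp2 h (r := r) ⟨F, hF1, hF2, hrF, Or.inr (Or.inl he)⟩ P
    · obtain ⟨F, hF1, hF2, he⟩ := hG
      obtain ⟨r, hr, hrF⟩ := exists_charP F
      exact RowExc.row_chev hna hp2 h (r := r) ⟨F, hF1, hF2, hrF, Or.inr (Or.inr (Or.inl he))⟩ P
    · obtain ⟨F, hF1, hF2, he⟩ := hG
      obtain ⟨r, hr, hrF⟩ := exists_charP F
      exact RowExc.row_chev hna hp2 h (r := r) ⟨F, hF1, hF2, hrF, Or.inr (Or.inr (Or.inr (Or.inl he)))⟩ P
    · obtain ⟨F, hF1, hF2, he⟩ := hG
      obtain ⟨r, hr, hrF⟩ := exists_charP F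
      exact RowExc.row_chev hna hp2 h (r := r) ⟨F, hF1, hF2, hrF, Or.inr (Or.inr (Or.inr (Or.inr he)))⟩ P
    · obtain ⟨F, hF1, hF2, q, hq, hF3, he⟩ := hG
      obtain ⟨r, hr, hrF⟩ := exists_charP F
      exact RowExc.row_tw hna hp2 h (r := r) ⟨F, hF1, hF2, hrF, q, hq, Or.inl ⟨hF3, he⟩⟩ P
    · obtain ⟨F, hF1, hF2, q, hq, hF3, he⟩ := hG
      obtain ⟨r, hr, hrF⟩ := exists_charP F
      exact RowExc.row_tw hna hp2 h (r := r) ⟨F, hF1, hF2, hrF, q, hq, Or.inr ⟨hF3, he⟩⟩ P
    · exact RowRank.row_suzuki hp2 hG P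
    · exact RowRank.row_ree hna hp2 h hG P
    · exact RowTwF.row_twF hna hp2 h hG P
    · exact H468.tits hp2 h.toH468 hG P
  · exact H468.spor hp2 h.toH468 hG P

/-- The case `p = 2`. -/
theorem two_of_omega {G : Type*} [Group G] [IsSimpleGroup G] (hna : ∃ a b : G, a * b ≠ b * a)
    (hsub : ∀ K : Subgroup G, K ≠ ⊤ → (∃ H : Subgroup ↥K, (H : Set ↥K) = {g : ↥K | g ^ 2 = 1})) :
    ∃ H : Subgroup G, (H : Set G) = {g : G | g ^ 2 = 1} := by
  have key : ∀ s t : G, s ^ 2 = 1 → t ^ 2 = 1 → (s * t) ^ 2 = 1 := by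
    intro s t hs ht
    have hs' : s⁻¹ = s := by
      rw [inv_eq_iff_mul_eq_one, ← pow_two, hs]
    have ht' : t⁻¹ = t := by
      rw [inv_eq_iff_mul_eq_one, ← pow_two, ht]
    have hK : _root_.Subgroup.closure ({s, t} : Set G) ≠ ⊤ := by
      intro hcon
      -- the subgroup generated by `s * t` is normal
      have h1 : closure ({s, t} : Set G) ≤ normalizer ((zpowers (s * t) : Subgroup G) : Set G) := by
        rw [closure_le]
        have h4 : ∀ y : G, y * (s * t) * y⁻¹ = (s * t)⁻¹ → y ∈ normalizer ((zpowers (s * t) : Subgroup G) : Set G) := by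
          intro y hy
          rw [mem_normalizer_iff]
          intro g
          constructor
          · rintro ⟨i, rfl⟩
            refine ⟨-i, ?_⟩
            change (s * t) ^ (-i) = y * (s * t) ^ i * y⁻¹
            rw [← conj_zpow, hy, inv_zpow, zpow_neg]
          · rintro ⟨i, hi⟩
            refine ⟨-i, ?_⟩
            change (s * t) ^ i = y * g * y⁻¹ at hi
            change (s * t) ^ (-i) = g
            have h5 : (s * t) ^ i = y * (s * t) ^ (-i) * y⁻¹ := by
              rw [← conj_zpow, hy, inv_zpow, zpow_neg, inv_inv]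
            have h6 : y * (s * t) ^ (-i) * y⁻¹ = y * g * y⁻¹ := by rw [← h5, hi]
            exact mul_left_cancel (mul_right_cancel h6)
        rintro y (rfl | hy)
        · apply h4
          calc y * (y * t) * y⁻¹ = (y * y) * t * y⁻¹ := by group
            _ = t⁻¹ * y⁻¹ := by rw [← pow_two, hs, one_mul, ht']
            _ = (y * t)⁻¹ := (mul_inv_rev y t).symm
        · rw [Set.mem_singleton_iff] at hy
          subst hy
          apply h4
          calc y * (s * y) * y⁻¹ = y * s := by group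
            _ = y⁻¹ * s⁻¹ := by rw [ht', hs']
            _ = (s * y)⁻¹ := (mul_inv_rev s y).symm
      have hN : (zpowers (s * t)).Normal := by
        rw [← normalizer_eq_top_iff, eq_top_iff, ← hcon]
        exact h1
      obtain ⟨a, b, hab⟩ := hna
      rcases hN.eq_bot_or_eq_top with h2 | h2
      · rw [zpowers_eq_bot] at h2
        have h3 : t = s := by
          rw [← hs', eq_inv_iff_mul_eq_one]
          calc t * s = s⁻¹ * (s * t) * s := by group
            _ = 1 := by rw [h2, mul_one, inv_mul_cancel]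
        rw [h3, Set.pair_eq_singleton, ← zpowers_eq_closure] at hcon
        obtain ⟨i, rfl⟩ : a ∈ zpowers s := by rw [hcon]; exact mem_top a
        obtain ⟨j, rfl⟩ : b ∈ zpowers s := by rw [hcon]; exact mem_top b
        exact hab (((Commute.refl s).zpow_zpow i j).eq)
      · obtain ⟨i, rfl⟩ : a ∈ zpowers (s * t) := by rw [h2]; exact mem_top a
        obtain ⟨j, rfl⟩ : b ∈ zpowers (s * t) := by rw [h2]; exact mem_top b
        exact hab (((Commute.refl (s * t)).zpow_zpow i j).eq)
    obtain ⟨H, hH⟩ := hsub _ hK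
    have hmem : ∀ y : closure ({s, t} : Set G), y ∈ H ↔ y ^ 2 = 1 := by
      intro y
      change y ∈ (H : Set _) ↔ _
      rw [hH]
      rfl
    have hsK : s ∈ closure ({s, t} : Set G) := _root_.Subgroup.subset_closure (by simp)
    have htK : t ∈ _root_.Subgroup.closure ({s, t} : Set G) := _root_.Subgroup.subset_closure (by simp)
    have h1 := H.mul_mem ((hmem ⟨s, hsK⟩).2 (Subtype.ext hs)) ((hmem ⟨t, htK⟩).2 (Subtype.ext ht))
    exact congrArg Subtype.val ((hmem _).1 h1)
  refine ⟨{ carrier := {g : G | g ^ 2 = 1}, mul_mem' := fun {a b} ha hb => key a b ha hb, one_mem' := one_pow 2, inv_mem' := fun {a} ha => ?_ }, rfl⟩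
  change a⁻¹ ^ 2 = 1
  have ha' : a ^ 2 = 1 := ha
  rw [inv_pow, ha', inv_one]

end Cfsg.Agent.H469
end
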